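import Cfsg.Agent.H255.M5D.Main_m3
import Cfsg.Agent.H777.Prune
import Cfsg.Agent.H777.PGrp
import Cfsg.Agent.H802.FusGroup
import Cfsg.Agent.H802.FusKGood
import Cfsg.Agent.H759.FusNormal
import Cfsg.Agent.H427.TWComp
import Cfsg.Agent.H458.Ab3_mg_m3
import Cfsg.Agent.H759.FusTransportD
import Cfsg.Agent.FastGrp
import Cfsg.Agent.Prune
set_option linter.all false

section
prune_inst 0x7ff2fefb8ff8bddfffff7e7ffffddffdfdf8fffffffffbcbffedebff3fff6b67fbe5fbaf9fecd0fdcff6e2beb0f87b53f9ffd77fea6bdc7ffffd5ff45ffbff9fffffbd8871969c341ffc6ffffbf07fee7f3fffffffffffffffffffffffffffffffffffffffff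

-- part: H777/M5/Amb
section
set_option linter.all false
open scoped Cfsg.Agent.FastGrp

/-!
# The pruned fusion system on a Sylow 5-subgroup of the Monster (helper777)

`M : MX G`; `f M : PG →* G`, `S M` its range (a Sylow 5-subgroup), `F M` the fusion system of `G` on it, `V M` the image
of `PG.SV`, `E M` the pruned system.
-/

set_option autoImplicit false
set_option linter.unusedSectionVars false

namespace Cfsg.Agent.H777.M5.MX

open Cfsg Cfsg.FusionSystem Cfsg.Agent.H802 Cfsg.Agent.H777.Prune Cfsg.Agent.H411.M5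

variable {G : Type} [Group G] [Finite G] (M : MX G)

instance fact5 : Fact (Nat.Prime 5) := ⟨Nat.prime_five⟩

/-- the embedding -/
def f : PG →* G := PDat.hom M.toPData

theorem f_injective : Function.Injective M.f := PDat.hom_injective M.toPData

theorem f_apply (g : PG) : M.f g = M.w g.v * M.x ^ g.c.val * (M.a ^ g.i.val * M.b ^ g.j.val) := rfl

/-- the Sylow 5-subgroup -/
def S : Subgroup G := M.f.range

theorem card_S : Nat.card M.S = 5 ^ 9 := PDat.card_range M.toPData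

theorem S_isPGroup : IsPGroup 5 M.S := IsPGroup.of_card M.card_S

include M in
theorem factorization_card : (Nat.card G).factorization 5 = 9 := by
  have h1 : 5 ^ 9 ∣ Nat.card G := by rw [← M.card_S]; exact Subgroup.card_subgroup_dvd_card M.S
  have h2 := M.not_dvd
  rw [Nat.prime_five.pow_dvd_iff_le_factorization Nat.card_pos.ne'] at h1 h2
  omega

/-- the Sylow 5-subgroup -/
noncomputable def T : Sylow 5 G := Sylow.ofCard M.S (by rw [M.factorization_card, M.card_S])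

theorem T_coe : (M.T : Subgroup G) = M.S := rfl

/-- the fusion system of `G` -/
def F : FusionSystem M.S := groupFusionSystem M.S

theorem F_sat : M.F.IsSaturated 5 := groupFusionSystem_isSaturated M.T

theorem mem_S {g : PG} : M.f g ∈ M.S := ⟨g, rfl⟩

/-- the pruned subgroup -/
def V : Subgroup G := PG.SV.map M.f

/-- the second centre -/
def L : Subgroup G := PG.SL.map M.f

/-- the normalizer of `V` in `S` -/
def N : Subgroup G := PG.SN.map M.f

/-- the group `5^{1+6}` -/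
def W : Subgroup G := PG.SW.map M.f

theorem map_le_S (H : Subgroup PG) : H.map M.f ≤ M.S := by
  rintro _ ⟨y, -, rfl⟩
  exact M.mem_S

theorem V_le : M.V ≤ M.S := M.map_le_S _

theorem SV_comm : ∀ x ∈ PG.SV, ∀ y ∈ PG.SV, x * y = y * x := by
  rintro x ⟨h1, h2, h3, h4, h5⟩ y ⟨k1, k2, k3, k4, k5⟩
  apply PG.ext
  · funext k
    rw [PG.mul_v, PG.mul_v, Pi.add_apply, Pi.add_apply]
    fin_cases k
    · show x.v 0 + act x.i x.j y.v 0 = y.v 0 + act y.i y.j x.v 0
      rw [act0, act0, h1, h2, h3, h4, h5, k1, k2, k3, k4, k5]; ring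
    · show x.v 1 + act x.i x.j y.v 1 = y.v 1 + act y.i y.j x.v 1
      rw [act1, act1, h1, h2, h3, h4, k1, k2, k3, k4]; ring
    · show x.v 2 + act x.i x.j y.v 2 = y.v 2 + act y.i y.j x.v 2
      rw [act2, act2, h1, h3, k1, k3]; ring
    · show x.v 3 + act x.i x.j y.v 3 = y.v 3 + act y.i y.j x.v 3
      rw [act3, act3, h1, h2, h3, h5, k1, k2, k3, k5]; ring
    · show x.v 4 + act x.i x.j y.v 4 = y.v 4 + act y.i y.j x.v 4
      rw [act4, act4, h1, h2, k1, k2]; ring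
    · show x.v 5 + act x.i x.j y.v 5 = y.v 5 + act y.i y.j x.v 5
      rw [act5, act5, h1, k1]
  · rw [PG.mul_c, PG.mul_c, om, om, act0, act1, act2, act3, act4, act5, act0, act1, act2, act3, act4, act5,
      h1, h2, h3, h4, h5, k1, k2, k3, k4, k5]
    linear_combination 6 * (-x.j * y.i + x.j ^ 2 * y.i + x.i * y.j - x.i * y.j ^ 2) * Cfsg.Agent.H411.M5.h5
  · rw [PG.mul_i, PG.mul_i, add_comm]
  · rw [PG.mul_j, PG.mul_j, add_comm]

theorem V_comm : ∀ x ∈ M.V, ∀ y ∈ M.V, x * y = y * x := by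
  rintro _ ⟨x, hx, rfl⟩ _ ⟨y, hy, rfl⟩
  rw [← map_mul, ← map_mul, SV_comm x hx y hy]

/-- two elements of `PG` which do not commute -/
theorem nab : (⟨0, 0, 1, 0⟩ : PG) * ⟨Pi.single 5 1, 0, 0, 0⟩ ≠ ⟨Pi.single 5 1, 0, 0, 0⟩ * ⟨0, 0, 1, 0⟩ := by
  decide +kernel

theorem not_below_of_nab {P : Subgroup G} {x y : G} (hx : x ∈ P) (hy : y ∈ P)
    (h : x * y ≠ y * x) : ¬ Below M.F M.V P := fun hb => h (hb.comm M.V_comm x hx y hy)

theorem hnS : ¬ Below M.F M.V M.S := by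
  refine M.not_below_of_nab (M.mem_S (g := ⟨0, 0, 1, 0⟩)) (M.mem_S (g := ⟨Pi.single 5 1, 0, 0, 0⟩)) ?_
  rw [← map_mul, ← map_mul]
  exact fun h => nab (M.f_injective h)

/-- the pruned system -/
def E : FusionSystem M.S := prune M.F M.V M.hnS

end Cfsg.Agent.H777.M5.MX
end

-- part: H211/M5/VFn
section
prune_inst 0xc0104600702200000018000020002020100000000040000100400c00004980402005000132a02100000010400008006002880050422000000a00080000040000002050069208a000200000000000000000000000000000000000000000000000000000000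
set_option linter.all false
open scoped Cfsg.Agent.FastGrp

/-!
# `V` is fully normalized (helper211, task S5230-P5)

* `mem_normalizer_SV` : `N_{PG}(SV) = SN`;
* `normalizerIn_V` : `N_S(V) = N`;
* `V_fn` : `V` is fully normalized in the fusion system of `G`.
-/

set_option autoImplicit false
set_option linter.unusedSectionVars false
set_option linter.style.haveILetI false

namespace Cfsg.Agent.H211.M5

open Cfsg Cfsg.FusionSystem Cfsg.Agent.H802 Cfsg.Agent.H411.M5 Cfsg.Agent.H777.M5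

/-! ### The normalizer of `SV` in `PG` -/

theorem conj_SW_v {w y : PG} (hi : w.i = 0) (hj : w.j = 0) :
    (w * y * w⁻¹).v = w.v + y.v - act y.i y.j w.v := by
  rw [PG.mul_v, PG.mul_v, PG.mul_i, PG.mul_j, PG.inv_v, hi, hj, neg_zero, act_one, act_one, zero_add, zero_add,
    act_neg, sub_eq_add_neg]

theorem conj_i (w y : PG) : (w * y * w⁻¹).i = y.i := by
  rw [PG.mul_i, PG.mul_i, PG.inv_i]; ring

theorem conj_j (w y : PG) : (w * y * w⁻¹).j = y.j := by
  rw [PG.mul_j, PG.mul_j, PG.inv_j]; ring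

/-- the element of `SV` with given `i`, `j` -/
def sv (i j : ZMod 5) : PG := ⟨![0, 2 * j - 2 * j ^ 2 - i ^ 2, j, -i + 2 * (i * j), 2 * i, 0], 0, i, j⟩

theorem sv_mem (i j : ZMod 5) : sv i j ∈ PG.SV := ⟨rfl, rfl, rfl, rfl, rfl⟩

theorem sv_i (i j : ZMod 5) : (sv i j).i = i := rfl
theorem sv_j (i j : ZMod 5) : (sv i j).j = j := rfl

theorem SV_le_SN : PG.SV ≤ PG.SN := fun _ h => ⟨h.1, h.2.1, h.2.2.1⟩

/-- `SA` normalizes `SV` -/
theorem conj_SA_mem {w y : PG} (hw : w ∈ PG.SA) (hy : y ∈ PG.SV) : w * y * w⁻¹ ∈ PG.SV := by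
  obtain ⟨hi, hj, h2, h4, h5⟩ := hw
  obtain ⟨k5, k4, k2, k1, k3⟩ := hy
  rw [PG.mem_SV, conj_i, conj_j, conj_SW_v hi hj]
  simp only [Pi.add_apply, Pi.sub_apply, act1, act2, act3, act4, act5, h2, h4, h5, k1, k2, k3, k4, k5]
  refine ⟨?_, ?_, ?_, ?_, ?_⟩ <;> ring

/-- an element of `SW` normalizing `SV` is in `SA` -/
theorem mem_SA_of_conj {w : PG} (hi : w.i = 0) (hj : w.j = 0) (h : ∀ y ∈ PG.SV, w * y * w⁻¹ ∈ PG.SV) : w ∈ PG.SA := by
  have h01 := h _ (sv_mem 0 1)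
  have h10 := h _ (sv_mem 1 0)
  rw [PG.mem_SV, conj_i, conj_j, conj_SW_v hi hj, sv_i, sv_j] at h01 h10
  obtain ⟨-, a4, -, a1, -⟩ := h01
  obtain ⟨-, -, -, b1, -⟩ := h10
  have e01 : (sv 0 1).v 4 = 0 := rfl
  have e011 : (sv 0 1).v 1 = 0 := rfl
  have e101 : (sv 1 0).v 1 = -1 := by decide
  simp only [Pi.add_apply, Pi.sub_apply, act1, act4, e01, e011, e101] at a4 a1 b1
  have v5 : w.v 5 = 0 := by linear_combination -a4
  rw [v5] at a1 b1
  have v2 : w.v 2 = 0 := by linear_combination -a1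
  rw [v2] at b1
  have v4 : w.v 4 = 0 := by linear_combination b1
  exact ⟨hi, hj, v2, v4, v5⟩

theorem mem_normalizer_SV {p : PG} : p ∈ Subgroup.normalizer (PG.SV : Set PG) ↔ p ∈ PG.SN := by
  have hs := sv_mem p.i p.j
  have hi : (p * (sv p.i p.j)⁻¹).i = 0 := by rw [PG.mul_i, PG.inv_i, sv_i]; ring
  have hj : (p * (sv p.i p.j)⁻¹).j = 0 := by rw [PG.mul_j, PG.inv_j, sv_j]; ring
  have hfac : p = p * (sv p.i p.j)⁻¹ * sv p.i p.j := by group
  have hsn : sv p.i p.j ∈ Subgroup.normalizer (PG.SV : Set PG) := Subgroup.le_normalizer hs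
  constructor
  · intro hp
    have h1 : p * (sv p.i p.j)⁻¹ ∈ Subgroup.normalizer (PG.SV : Set PG) :=
      Subgroup.mul_mem _ hp (Subgroup.inv_mem _ hsn)
    have h2 := mem_SA_of_conj hi hj (fun y hy => (Subgroup.mem_normalizer_iff.1 h1 y).1 hy)
    have h3 : p * (sv p.i p.j)⁻¹ ∈ PG.SN := by
      obtain ⟨k1, k2, k3, k4, k5⟩ := h2
      exact ⟨k5, by rw [k4, k1, mul_zero], by rw [k3, k2]⟩
    rw [hfac]
    exact PG.SN.mul_mem h3 (SV_le_SN hs)
  · intro hp
    have h3 : p * (sv p.i p.j)⁻¹ ∈ PG.SN := PG.SN.mul_mem hp (PG.SN.inv_mem (SV_le_SN hs))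
    have h2 : p * (sv p.i p.j)⁻¹ ∈ PG.SA := by
      obtain ⟨k5, k4, k2⟩ := h3
      rw [hi, mul_zero] at k4
      rw [hj] at k2
      exact ⟨hi, hj, k2, k4, k5⟩
    rw [hfac]
    refine Subgroup.mul_mem _ ?_ hsn
    rw [Subgroup.mem_normalizer_iff]
    intro y
    refine ⟨fun hy => conj_SA_mem h2 hy, fun hy => ?_⟩
    have h4 := conj_SA_mem (PG.SA.inv_mem h2) hy
    have e : (p * (sv p.i p.j)⁻¹)⁻¹ * (p * (sv p.i p.j)⁻¹ * y * (p * (sv p.i p.j)⁻¹)⁻¹) *
        (p * (sv p.i p.j)⁻¹)⁻¹⁻¹ = y := by group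
    rwa [e] at h4

variable {G : Type} [Group G] [Finite G] (M : MX G)

/-- `N_S(V) = N` -/
theorem normalizerIn_V : normalizerIn M.S M.V = M.N := by
  ext g
  constructor
  · rintro ⟨⟨p, rfl⟩, hg⟩
    refine ⟨p, ?_, rfl⟩
    refine mem_normalizer_SV.1 (Subgroup.mem_normalizer_iff.2 fun y => ?_)
    have key : ∀ y : PG, y ∈ PG.SV ↔ M.f y ∈ M.V := by
      intro y
      refine ⟨fun hy => ⟨y, hy, rfl⟩, ?_⟩
      rintro ⟨z, hz, hzy⟩
      rwa [← M.f_injective hzy]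
    rw [key, key, map_mul, map_mul, map_inv]
    exact Subgroup.mem_normalizer_iff.1 hg _
  · rintro ⟨p, hp, rfl⟩
    refine ⟨M.mem_S, Subgroup.mem_normalizer_iff.2 fun g => ?_⟩
    have hn := Subgroup.mem_normalizer_iff.1 (mem_normalizer_SV.2 hp)
    constructor
    · rintro ⟨y, hy, rfl⟩
      exact ⟨p * y * p⁻¹, (hn y).1 hy, by rw [map_mul, map_mul, map_inv]⟩
    · rintro ⟨y, hy, he⟩
      refine ⟨p⁻¹ * y * p, (hn _).2 ?_, ?_⟩
      · have e : p * (p⁻¹ * y * p) * p⁻¹ = y := by group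
        rwa [e]
      · rw [map_mul, map_mul, map_inv, he]
        group

theorem card_N (hN : Nat.card PG.SN = 5 ^ 6) : Nat.card M.N = 5 ^ 6 := by
  rw [← hN]
  exact (Nat.card_congr (Subgroup.equivMapOfInjective PG.SN M.f M.f_injective).toEquiv).symm

/-- `V` is fully normalized, from P2 and P3. -/
theorem V_fn_of (hN : Nat.card PG.SN = 5 ^ 6)
    (fn_pg : ∀ (ψ : PG.SN →* PG), Function.Injective ψ →
      (∀ y : PG.SN, (y : PG) ∈ PG.SL ↔ ψ y ∈ PG.SL) ∧
      ((∀ y : PG.SN, (y : PG) ∈ PG.SV ↔ ψ y ∈ PG.SA) ∨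
       Nat.card (Subgroup.normalizer (((PG.SV.subgroupOf PG.SN).map ψ : Subgroup PG) : Set PG)) ≤ 5 ^ 6))
    (not_conj_SA : ∀ g : G, (∀ y ∈ PG.SL, ∃ p ∈ PG.SL, M.f p = g * M.f y * g⁻¹) →
      (∀ y ∈ PG.SV, ∃ p ∈ PG.SA, M.f p = g * M.f y * g⁻¹) → False) :
    M.F.IsFullyNormalized M.V := by
  obtain ⟨Q, hVQ, hQ⟩ := exists_isFullyNormalized M.S_isPGroup M.F_sat M.V_le
  have hVQ' := hVQ
  obtain ⟨φ, hφ, hr⟩ := hVQ'
  obtain ⟨β, hβ, ψ, ⟨-, hψS, g, hg⟩, he, hm⟩ := exists_extension_normalizer M.S_isPGroup M.F_sat hφ hr hQ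
  have hNe := normalizerIn_V M
  -- the map `SN → PG`
  have hmem : ∀ y : PG.SN, M.f y ∈ normalizerIn M.S M.V := fun y => by
    rw [hNe]; exact ⟨y, y.2, rfl⟩
  have hex : ∀ y : PG.SN, ∃ p : PG, M.f p = g * M.f y * g⁻¹ := fun y => by
    have h1 := hψS ⟨_, hmem y⟩
    rw [hg] at h1
    exact h1
  choose θ hθ using hex
  let Θ : PG.SN →* PG := MonoidHom.mk' θ (fun y z => M.f_injective (by
    rw [map_mul, hθ, hθ, hθ, Subgroup.coe_mul, map_mul]; group))
  have hΘ : ∀ y : PG.SN, M.f (Θ y) = g * M.f y * g⁻¹ := hθ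
  have hΘi : Function.Injective Θ := by
    intro y z hyz
    have h1 := hΘ y
    rw [hyz, hΘ z] at h1
    have h2 : M.f z = M.f y := mul_left_cancel (mul_right_cancel h1)
    exact Subtype.ext (M.f_injective h2).symm
  -- `Q = g V g⁻¹`
  have hQV : ∀ x ∈ M.V, g * x * g⁻¹ ∈ Q := by
    intro x hx
    have h1 : φ ⟨x, hx⟩ ∈ Q := hr.le ⟨_, rfl⟩
    have h2 : (x : G) ∈ normalizerIn M.S M.V := by
      exact ⟨M.V_le hx, Subgroup.le_normalizer hx⟩
    have h3 := he ⟨x, hx⟩ h1 h2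
    rw [hg] at h3
    have h4 : g * x * g⁻¹ = (β ⟨φ ⟨x, hx⟩, h1⟩ : Q) := h3
    rw [h4]
    exact (β _).2
  have hQeq : Q = ((PG.SV.subgroupOf PG.SN).map Θ : Subgroup PG).map M.f := by
    symm
    have hfQ : Finite Q := inferInstance
    refine Subgroup.eq_of_le_of_card_ge ?_ ?_
    · rintro _ ⟨_, ⟨y, hy, rfl⟩, rfl⟩
      rw [hΘ]
      exact hQV _ ⟨y, hy, rfl⟩
    · rw [← isConj_card_eq hVQ]
      rw [← Nat.card_congr (Subgroup.equivMapOfInjective _ M.f M.f_injective).toEquiv,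
        ← Nat.card_congr (Subgroup.equivMapOfInjective _ Θ hΘi).toEquiv,
        Nat.card_congr (Subgroup.subgroupOfEquivOfLe SV_le_SN).toEquiv]
      exact (Nat.card_congr (Subgroup.equivMapOfInjective PG.SV M.f M.f_injective).toEquiv).ge
  obtain ⟨hL, hV⟩ := fn_pg Θ hΘi
  rcases hV with hV | hV
  · exfalso
    refine not_conj_SA g ?_ ?_
    · intro y hy
      have hyN : y ∈ PG.SN := by
        obtain ⟨h1, h2, h3, h4, h5, h6, h7⟩ := hy
        exact ⟨h7, by rw [h6, h1, mul_zero], by rw [h4, h2]⟩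
      exact ⟨Θ ⟨y, hyN⟩, (hL ⟨y, hyN⟩).1 hy, hΘ _⟩
    · intro y hy
      exact ⟨Θ ⟨y, SV_le_SN hy⟩, (hV ⟨y, SV_le_SN hy⟩).1 hy, hΘ _⟩
  · refine ⟨M.V_le, fun R hR => ?_⟩
    refine (hQ.2 R (isConj_trans (isConj_symm hVQ) hR)).trans ?_
    have h1 : Nat.card (normalizerIn M.S M.V) = 5 ^ 6 := by rw [hNe, card_N M hN]
    have h2 : Nat.card (normalizerIn M.S Q) ≤
        Nat.card (Subgroup.normalizer (((PG.SV.subgroupOf PG.SN).map Θ : Subgroup PG) : Set PG)) := by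
      have hle : normalizerIn M.S Q ≤
          (Subgroup.normalizer (((PG.SV.subgroupOf PG.SN).map Θ : Subgroup PG) : Set PG)).map M.f := by
        rintro _ ⟨⟨p, rfl⟩, hp⟩
        refine ⟨p, Subgroup.mem_normalizer_iff.2 fun y => ?_, rfl⟩
        have key : ∀ y : PG, y ∈ (PG.SV.subgroupOf PG.SN).map Θ ↔ M.f y ∈ Q := by
          intro y
          rw [hQeq]
          refine ⟨fun hy => ⟨y, hy, rfl⟩, ?_⟩
          rintro ⟨z, hz, hzy⟩
          rwa [← M.f_injective hzy]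
        rw [key, key, map_mul, map_mul, map_inv]
        exact Subgroup.mem_normalizer_iff.1 hp _
      refine (Nat.card_mono (Set.toFinite _) hle).trans ?_
      exact (Nat.card_congr (Subgroup.equivMapOfInjective _ M.f M.f_injective).toEquiv).ge
    show Nat.card (normalizerIn M.S Q) ≤ Nat.card (normalizerIn M.S M.V)
    rw [h1]
    exact h2.trans hV

end Cfsg.Agent.H211.M5
end

-- part: H771/M5/NotMem
section
prune_inst 0xc0104600702200000018000020000020100000000040000100400c00004980402000000132802100000010400008002002880050421800002a00080000040000000050069208a000200000000000000000000000000000000000000000000000000000000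
set_option linter.all false
open scoped Cfsg.Agent.FastGrp

/-!
# S5230-P6: a map of the fusion system of the Monster on `V` which is not in the pruned system (helper771)
-/

set_option autoImplicit false
set_option linter.unusedSectionVars false
set_option linter.unusedVariables false

namespace Cfsg.Agent.H771.M5X

open Cfsg Cfsg.FusionSystem Cfsg.Agent.H802 Cfsg.Agent.H777.Prune Cfsg.Agent.H411.M5 Cfsg.Agent.H777.M5
  Cfsg.Agent.H211.M5

theorem lin_dec : ∀ u1 u3 i j : ZMod 5, ¬ (u1 = 0 ∧ u3 = 0) → j * u1 - i * u3 = 0 → 2 * i * u1 + j * u3 = 0 →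
    i = 0 ∧ j = 0 := by decide +kernel

theorem five_zero : (5 : ZMod 5) = 0 := by decide

/-- **(H)**: an element of `SN` outside `SV` commutes exactly with the elements of `SL` in `SV`. -/
theorem mem_SL_of_comm {y v : PG} (hy : y ∈ PG.SN) (hyV : y ∉ PG.SV) (hv : v ∈ PG.SV) (h : v * y = y * v) :
    v ∈ PG.SL := by
  obtain ⟨k5, k4, k2⟩ := hy
  obtain ⟨h5, h4, h2, h1, h3⟩ := hv
  have hA := congrArg (fun g => PG.v g 0) h
  have hC := congrArg PG.c h
  simp only [PG.mul_v, Pi.add_apply, act0, k5, k4, k2, h5, h4, h2, h1, h3] at hA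
  simp only [PG.mul_c, om, act0, act1, act2, act3, act4, act5, k5, k4, k2, h5, h4, h2, h1, h3] at hC
  have hu : ¬ (y.v 1 - (2 * y.j - 2 * y.j ^ 2 - y.i ^ 2) = 0 ∧ y.v 3 - (-y.i + 2 * (y.i * y.j)) = 0) := by
    rintro ⟨e1, e3⟩
    exact hyV ⟨k5, k4, k2, sub_eq_zero.1 e1, sub_eq_zero.1 e3⟩
  have e1 : v.j * (y.v 1 - (2 * y.j - 2 * y.j ^ 2 - y.i ^ 2)) - v.i * (y.v 3 - (-y.i + 2 * (y.i * y.j))) = 0 := by
    linear_combination hA
  have e2 : 2 * v.i * (y.v 1 - (2 * y.j - 2 * y.j ^ 2 - y.i ^ 2)) + v.j * (y.v 3 - (-y.i + 2 * (y.i * y.j))) = 0 := by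
    linear_combination hC - ((2 * v.i * (y.v 1 - (2 * y.j - 2 * y.j ^ 2 - y.i ^ 2)) +
      v.j * (y.v 3 - (-y.i + 2 * (y.i * y.j)))) + 6 * (v.i * y.j - v.i * y.j ^ 2 - y.i * v.j + y.i * v.j ^ 2)) *
      five_zero
  obtain ⟨hi, hj⟩ := lin_dec _ _ _ _ hu e1 e2
  refine ⟨hi, hj, ?_, ?_, ?_, ?_, h5⟩
  · rw [h1, hi, hj]; ring
  · rw [h2, hj]
  · rw [h3, hi, hj]; ring
  · rw [h4, hi, mul_zero]

theorem comm_SL_SN {p y : PG} (hp : p ∈ PG.SL) (hy : y ∈ PG.SN) : p * y = y * p := by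
  obtain ⟨h1, h2, h3, h4, h5, h6, h7⟩ := hp
  obtain ⟨k5, k4, k2⟩ := hy
  apply PG.ext
  · funext k
    rw [PG.mul_v, PG.mul_v, Pi.add_apply, Pi.add_apply]
    fin_cases k
    · show p.v 0 + act p.i p.j y.v 0 = y.v 0 + act y.i y.j p.v 0
      rw [act0, act0, h1, h2, h3, h4, h5, h6, h7]; ring
    · show p.v 1 + act p.i p.j y.v 1 = y.v 1 + act y.i y.j p.v 1
      rw [act1, act1, h1, h2, h3, h4, h6, h7]; ring
    · show p.v 2 + act p.i p.j y.v 2 = y.v 2 + act y.i y.j p.v 2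
      rw [act2, act2, h1, h4, h7]; ring
    · show p.v 3 + act p.i p.j y.v 3 = y.v 3 + act y.i y.j p.v 3
      rw [act3, act3, h1, h2, h4, h5, h6, h7]; ring
    · show p.v 4 + act p.i p.j y.v 4 = y.v 4 + act y.i y.j p.v 4
      rw [act4, act4, h2, h6, h7]; ring
    · show p.v 5 + act p.i p.j y.v 5 = y.v 5 + act y.i y.j p.v 5
      rw [act5, act5, h7, k5]
  · rw [PG.mul_c, PG.mul_c, om, om, act0, act1, act2, act3, act4, act5, act0, act1, act2, act3, act4, act5,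
      h1, h2, h3, h4, h5, h6, h7, k5]
    ring
  · rw [PG.mul_i, PG.mul_i, add_comm]
  · rw [PG.mul_j, PG.mul_j, add_comm]

theorem card_SV_ge : 5 ^ 4 ≤ Nat.card PG.SV := by
  have h1 : Nat.card (ZMod 5 × ZMod 5 × ZMod 5 × ZMod 5) = 5 ^ 4 := by
    rw [Nat.card_prod, Nat.card_prod, Nat.card_prod, Nat.card_zmod]; norm_num
  rw [← h1]
  have hf : Finite PG.SV := inferInstance
  refine Nat.card_le_card_of_injective (fun q : ZMod 5 × ZMod 5 × ZMod 5 × ZMod 5 =>
    (⟨⟨![q.1, 2 * q.2.2.2 - 2 * q.2.2.2 ^ 2 - q.2.2.1 ^ 2, q.2.2.2, -q.2.2.1 + 2 * (q.2.2.1 * q.2.2.2),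
      2 * q.2.2.1, 0], q.2.1, q.2.2.1, q.2.2.2⟩, rfl, rfl, rfl, rfl, rfl⟩ : PG.SV)) ?_
  rintro ⟨a, b, c, d⟩ ⟨a', b', c', d'⟩ h
  have h2 := congrArg Subtype.val h
  have e1 := congrArg (fun g => PG.v g 0) h2
  have e2 := congrArg PG.c h2
  have e3 := congrArg PG.i h2
  have e4 := congrArg PG.j h2
  simp only at e2 e3 e4
  have e1' : a = a' := e1
  rw [e1', e2, e3, e4]

variable {G : Type} [Group G] [Finite G] (M : MX G)

theorem f_mem_map {H : Subgroup PG} {p : PG} : M.f p ∈ H.map M.f ↔ p ∈ H := by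
  refine ⟨?_, fun h => ⟨p, h, rfl⟩⟩
  rintro ⟨z, hz, hzy⟩
  rwa [← M.f_injective hzy]

theorem mem_L_iff {v y : G} (hv : v ∈ M.V) (hy : y ∈ M.N) (hyV : y ∉ M.V) : v ∈ M.L ↔ v * y = y * v := by
  obtain ⟨p, hp, rfl⟩ := hv
  obtain ⟨q, hq, rfl⟩ := hy
  have hqV : q ∉ PG.SV := fun h => hyV ⟨q, h, rfl⟩
  constructor
  · intro h
    rw [← map_mul, ← map_mul, comm_SL_SN ((f_mem_map M).1 h) hq]
  · intro h
    rw [← map_mul, ← map_mul] at h
    exact ⟨p, mem_SL_of_comm hq hqV hp (M.f_injective h), rfl⟩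

/-- automorphisms of `V` fixing `L` -/
def Dst : Subgroup (MulAut M.V) where
  carrier := {α | ∀ x : M.V, (x : G) ∈ M.L ↔ (α x : G) ∈ M.L}
  one_mem' := fun x => Iff.rfl
  mul_mem' := fun {α β} hα hβ x => (hβ x).trans (hα _)
  inv_mem' := fun {α} hα x => by
    have := hα (α⁻¹ x)
    rw [MulAut.apply_inv_self] at this
    exact this.symm

theorem le_Dst : ∀ α ∈ M.F.autGroup M.V, Extends M.F M.V α → α ∈ Dst M := by
  rintro α hα ⟨R, hVR, hcard, ψ, ⟨hRS, hψS, h, hh⟩, hψα⟩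
  -- an element of `R` normalizing `V`
  have hRp : IsPGroup 5 R := M.S_isPGroup.to_le hRS
  have hfR : Finite R := inferInstance
  have hne : M.V ≠ R := by
    intro he
    rw [← he] at hcard
    exact lt_irrefl _ hcard
  have hlt := card_lt_card_normalizerIn hRp hVR hne
  have hex : ∃ y ∈ normalizerIn R M.V, y ∉ M.V := by
    by_contra hcon
    push Not at hcon
    have := Nat.card_mono (Set.toFinite _) (hcon : normalizerIn R M.V ≤ M.V)
    exact absurd hlt (not_lt.2 this)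
  obtain ⟨y, ⟨hyR, hyn⟩, hyV⟩ := hex
  have hyn' := Subgroup.mem_normalizer_iff.1 hyn
  have hyN : y ∈ M.N := by
    rw [← normalizerIn_V M]
    exact ⟨hRS hyR, hyn⟩
  -- conjugation by `h` preserves `V`
  have hhV : ∀ x : M.V, h * x * h⁻¹ = α x := fun x => by
    rw [← hψα x, hh]
  have hhV' : ∀ x, x ∈ M.V ↔ h * x * h⁻¹ ∈ M.V := by
    intro x
    constructor
    · intro hx
      have h2 : h * x * h⁻¹ = α ⟨x, hx⟩ := hhV ⟨x, hx⟩
      rw [h2]
      exact (α ⟨x, hx⟩).2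
    · intro hx
      obtain ⟨z, hz⟩ := α.surjective ⟨_, hx⟩
      have h2 := hhV z
      rw [hz] at h2
      have h3 : (z : G) = x := mul_left_cancel (mul_right_cancel h2)
      rw [← h3]
      exact z.2
  set y' := h * y * h⁻¹ with hy'
  have hy'S : y' ∈ M.S := by
    have := hψS ⟨y, hyR⟩
    rw [hh] at this
    exact this
  have hy'V : y' ∉ M.V := fun hc => hyV ((hhV' y).2 hc)
  have hy'N : y' ∈ M.N := by
    rw [← normalizerIn_V M]
    refine ⟨hy'S, Subgroup.mem_normalizer_iff.2 fun x => ?_⟩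
    have e1 : h * (h⁻¹ * x * h) * h⁻¹ = x := by group
    rw [← e1, ← hhV', hyn', hhV']
    have e2 : h * (y * (h⁻¹ * x * h) * y⁻¹) * h⁻¹ = y' * (h * (h⁻¹ * x * h) * h⁻¹) * y'⁻¹ := by rw [hy']; group
    rw [e2]
  intro x
  rw [mem_L_iff M x.2 hyN hyV, mem_L_iff M (α x).2 hy'N hy'V, ← hhV x, hy']
  have e1 : h * (x : G) * h⁻¹ * (h * y * h⁻¹) = h * (x * y) * h⁻¹ := by group
  have e2 : h * y * h⁻¹ * (h * (x : G) * h⁻¹) = h * (y * x) * h⁻¹ := by group
  rw [e1, e2]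
  exact ⟨fun hc => by rw [hc], fun hc => mul_left_cancel (mul_right_cancel hc)⟩

end Cfsg.Agent.H771.M5X
end

-- part: H771/M5/NotMemB
section
prune_inst 0xc0104200702200000000000000002020400000000043000101000c00000980400000060002802100000000000000000002880050023000000000080000040000002250068208a000200000001000000000000000000000000000000000000000000000000
set_option linter.all false
open scoped Cfsg.Agent.FastGrp

/-!
# S5230-P6: a map of the fusion system of the Monster on `V` which is not in the pruned system (helper771)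
-/

set_option autoImplicit false
set_option linter.unusedSectionVars false
set_option linter.unusedVariables false

namespace Cfsg.Agent.H771.M5X

open Cfsg Cfsg.FusionSystem Cfsg.Agent.H802 Cfsg.Agent.H777.Prune Cfsg.Agent.H411.M5 Cfsg.Agent.H777.M5
  Cfsg.Agent.H211.M5

/-- an element of `SV` outside `SL` -/
def p0 : PG := ⟨![4, 1, 0, 2, 1, 0], 3, 3, 0⟩

/-- a conjugate of it commuting with `t` -/
def q1 : PG := ⟨![0, 0, 0, 0, 1, 0], 1, 3, 0⟩

/-- the conjugating element -/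
def w1 : PG := ⟨![0, 0, 2, 1, 3, 0], 0, 0, 0⟩

theorem p0_mem : p0 ∈ PG.SV := by
  refine ⟨rfl, ?_, rfl, ?_, ?_⟩ <;> decide

theorem p0_not_mem : p0 ∉ PG.SL := by
  rintro ⟨h, -⟩
  exact absurd h (by decide)

theorem w1_p0' : w1 * p0 = q1 * w1 := by
  apply PG.ext
  · funext k
    fin_cases k <;> decide +kernel
  · decide +kernel
  · decide +kernel
  · decide +kernel

theorem w1_p0 : w1 * p0 * w1⁻¹ = q1 := by
  rw [w1_p0', mul_assoc, mul_inv_cancel, mul_one]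

theorem q1_five : q1 ^ 5 = 1 := by
  have h : q1 * q1 * q1 * q1 * q1 = 1 := by
    apply PG.ext
    · funext k
      fin_cases k <;> decide +kernel
    · decide +kernel
    · decide +kernel
    · decide +kernel
  calc q1 ^ 5 = q1 * q1 * q1 * q1 * q1 := by simp only [pow_succ, pow_zero, one_mul]
    _ = 1 := h

theorem q1_ne : q1 ≠ 1 := fun h => absurd (congrArg PG.c h) (by decide +kernel)

theorem tM_e4 : Matrix.mulVec tM ![0, 0, 0, 0, 1, 0] = ![0, 0, 0, 0, 1, 0] := by decide +kernel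

variable {G : Type} [Group G] [Finite G] (M : MX G)

theorem q1_t : M.f q1 * M.t = M.t * M.f q1 := by
  have hw : M.t * M.w q1.v * M.t⁻¹ = M.w q1.v := by
    rw [M.t_w]
    congr 1
    exact tM_e4
  have hw' : M.w q1.v * M.t = M.t * M.w q1.v := by
    calc M.w q1.v * M.t = M.t * M.w q1.v * M.t⁻¹ * M.t := by rw [hw]
      _ = M.t * M.w q1.v := by group
  have hj : q1.j.val = 0 := rfl
  have h1 : Commute M.t (M.w q1.v) := hw'.symm
  have h2 : Commute M.t M.x := M.tx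
  have h3 : Commute M.t M.a := M.ta
  have h4 : Commute M.t (M.f q1) := by
    rw [MX.f_apply, hj, pow_zero, mul_one]
    exact (h1.mul_right (h2.pow_right _)).mul_right (h3.pow_right _)
  exact h4.symm

theorem orderOf_q1 : orderOf (M.f q1) = 5 := by
  rw [orderOf_injective _ M.f_injective]
  exact orderOf_eq_prime q1_five q1_ne

theorem card_centralizer_p0 : 5 ^ 7 ∣ Nat.card ↥(Subgroup.centralizer ({M.f p0} : Set G)) := by
  have h1 := M.big _ (orderOf_q1 M) (q1_t M)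
  have h2 : (Subgroup.centralizer ({M.f q1} : Set G)).map (MulAut.conj (M.f w1)⁻¹).toMonoidHom ≤
      Subgroup.centralizer ({M.f p0} : Set G) := by
    rintro _ ⟨c, hc, rfl⟩
    rw [Subgroup.mem_centralizer_singleton_iff]
    have hc' : c * M.f q1 = M.f q1 * c := Subgroup.mem_centralizer_singleton_iff.1 hc
    rw [← w1_p0, map_mul, map_mul, map_inv] at hc'
    show (M.f w1)⁻¹ * c * (M.f w1)⁻¹⁻¹ * M.f p0 = M.f p0 * ((M.f w1)⁻¹ * c * (M.f w1)⁻¹⁻¹)
    calc (M.f w1)⁻¹ * c * (M.f w1)⁻¹⁻¹ * M.f p0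
        = (M.f w1)⁻¹ * (c * (M.f w1 * M.f p0 * (M.f w1)⁻¹)) * M.f w1 := by group
      _ = (M.f w1)⁻¹ * (M.f w1 * M.f p0 * (M.f w1)⁻¹ * c) * M.f w1 := by rw [hc']
      _ = M.f p0 * ((M.f w1)⁻¹ * c * (M.f w1)⁻¹⁻¹) := by group
  refine h1.trans ?_
  rw [← card_map_conj (M.f w1)⁻¹ (Subgroup.centralizer ({M.f q1} : Set G))]
  exact Subgroup.card_dvd_of_le h2

theorem card_V_ge : 5 ^ 4 ≤ Nat.card M.V := by
  refine card_SV_ge.trans ?_
  exact (Nat.card_congr (Subgroup.equivMapOfInjective PG.SV M.f M.f_injective).toEquiv).le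

theorem V_isPGroup : IsPGroup 5 M.V := M.S_isPGroup.to_le M.V_le

include M in
/-- abelian 5-subgroups have order at most `5 ^ 4` -/
theorem card_le_of_comm (A : Subgroup G) (hA : IsPGroup 5 A) (hc : ∀ a ∈ A, ∀ b ∈ A, a * b = b * a) :
    Nat.card A ≤ 5 ^ 4 := by
  obtain ⟨Q, hQ⟩ := hA.exists_le_sylow
  obtain ⟨g, hg⟩ := MulAction.exists_smul_eq G Q M.T
  have h1 : ∀ a ∈ A, ∃ p : PG, M.f p = g * a * g⁻¹ := by
    intro a ha
    have h2 : g * a * g⁻¹ ∈ (M.T : Subgroup G) := by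
      rw [← hg, Sylow.coe_subgroup_smul]
      exact ⟨a, hQ ha, rfl⟩
    exact h2
  let B : Subgroup PG := (A.map (MulAut.conj g).toMonoidHom).comap M.f
  have hmB : ∀ p, p ∈ B ↔ ∃ a ∈ A, g * a * g⁻¹ = M.f p := fun p => Iff.rfl
  have hB : Nat.card B ≤ 5 ^ 4 := by
    refine card_le_of_comm_PG B ?_
    intro p hp q hq
    obtain ⟨a, ha, hap⟩ := (hmB p).1 hp
    obtain ⟨b, hb, hbq⟩ := (hmB q).1 hq
    apply M.f_injective
    rw [map_mul, map_mul, ← hap, ← hbq]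
    calc g * a * g⁻¹ * (g * b * g⁻¹) = g * (a * b) * g⁻¹ := by group
      _ = g * (b * a) * g⁻¹ := by rw [hc a ha b hb]
      _ = g * b * g⁻¹ * (g * a * g⁻¹) := by group
  refine le_trans ?_ hB
  choose θ hθ using h1
  refine Nat.card_le_card_of_injective (fun a : A => (⟨θ a a.2, (hmB _).2 ⟨a, a.2, (hθ a a.2).symm⟩⟩ : B)) ?_
  intro a b hab
  have h2 : θ a a.2 = θ b b.2 := congrArg Subtype.val hab
  have h3 : g * (a : G) * g⁻¹ = g * (b : G) * g⁻¹ := by rw [← hθ a a.2, ← hθ b b.2, h2]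
  exact Subtype.ext (mul_left_cancel (mul_right_cancel h3))

/-- an element normalizing `V`, commuting with `y₀`, which does not centralize `V` -/
theorem exists_y : ∃ y : G, y ∈ Subgroup.normalizer (M.V : Set G) ∧ y * M.f p0 = M.f p0 * y ∧
    (∃ k : ℕ, y ^ 5 ^ k = 1) ∧ ∃ x ∈ M.V, y * x ≠ x * y := by
  set C := Subgroup.centralizer ({M.f p0} : Set G) with hC
  have hVC : M.V ≤ C := by
    intro v hv
    rw [hC, Subgroup.mem_centralizer_singleton_iff]
    exact M.V_comm v hv _ ⟨p0, p0_mem, rfl⟩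
  have hVp : IsPGroup 5 (M.V.subgroupOf C) := (V_isPGroup M).comap_of_injective C.subtype (Subgroup.subtype_injective C)
  obtain ⟨Y, hY⟩ := hVp.exists_le_sylow
  set R : Subgroup G := (Y : Subgroup C).map C.subtype with hR
  have hRp : IsPGroup 5 R := Y.2.map C.subtype
  have hVR : M.V ≤ R := by
    intro v hv
    exact ⟨⟨v, hVC hv⟩, hY hv, rfl⟩
  have hRC : R ≤ C := by
    rintro _ ⟨c, -, rfl⟩
    exact c.2
  have hcR : 5 ^ 7 ≤ Nat.card R := by
    have h1 : Nat.card R = Nat.card (Y : Subgroup C) :=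
      (Nat.card_congr (Subgroup.equivMapOfInjective _ _ (Subgroup.subtype_injective C)).toEquiv).symm
    have h2 := Y.card_eq_multiplicity
    have h3 : 7 ≤ (Nat.card C).factorization 5 :=
      (Nat.prime_five.pow_dvd_iff_le_factorization Nat.card_pos.ne').1 (card_centralizer_p0 M)
    have h4 : Nat.card (Y : Subgroup C) = 5 ^ (Nat.card C).factorization 5 := h2
    rw [h1, h4]
    exact Nat.pow_le_pow_right (by norm_num) h3
  have hne : M.V ≠ R := by
    intro h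
    have h1 := card_le_of_comm M M.V (V_isPGroup M) M.V_comm
    rw [h] at h1
    have := hcR.trans h1
    norm_num at this
  have hlt := card_lt_card_normalizerIn hRp hVR hne
  have hex : ∃ y ∈ normalizerIn R M.V, y ∉ M.V := by
    by_contra hcon
    push Not at hcon
    have := Nat.card_mono (Set.toFinite _) (hcon : normalizerIn R M.V ≤ M.V)
    exact absurd hlt (not_lt.2 this)
  obtain ⟨y, ⟨hyR, hyn⟩, hyV⟩ := hex
  refine ⟨y, hyn, ?_, ?_, ?_⟩
  · exact Subgroup.mem_centralizer_singleton_iff.1 (hRC hyR)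
  · obtain ⟨k, hk⟩ := hRp ⟨y, hyR⟩
    exact ⟨k, congrArg Subtype.val hk⟩
  · by_contra hcon
    push Not at hcon
    -- `⟨V, y⟩` is abelian
    set A := M.V ⊔ Subgroup.zpowers y with hA
    have hAR : A ≤ R := sup_le hVR (by rw [Subgroup.zpowers_le]; exact hyR)
    have hAc : ∀ a ∈ A, ∀ b ∈ A, a * b = b * a := by
      have h1 : A ≤ Subgroup.centralizer (A : Set G) := by
        have h2 : ∀ v ∈ M.V, v ∈ Subgroup.centralizer (A : Set G) := by
          intro v hv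
          rw [Subgroup.mem_centralizer_iff]
          intro a ha
          have h3 : A ≤ Subgroup.centralizer ({v} : Set G) := by
            refine sup_le ?_ ?_
            · intro u hu
              rw [Subgroup.mem_centralizer_singleton_iff]
              exact M.V_comm u hu v hv
            · rw [Subgroup.zpowers_le, Subgroup.mem_centralizer_singleton_iff]
              exact hcon v hv
          exact Subgroup.mem_centralizer_singleton_iff.1 (h3 ha)
        have h2' : y ∈ Subgroup.centralizer (A : Set G) := by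
          rw [Subgroup.mem_centralizer_iff]
          intro a ha
          have h3 : A ≤ Subgroup.centralizer ({y} : Set G) := by
            refine sup_le ?_ ?_
            · intro u hu
              rw [Subgroup.mem_centralizer_singleton_iff]
              exact (hcon u hu).symm
            · rw [Subgroup.zpowers_le, Subgroup.mem_centralizer_singleton_iff]
          exact Subgroup.mem_centralizer_singleton_iff.1 (h3 ha)
        refine sup_le h2 ?_
        rw [Subgroup.zpowers_le]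
        exact h2'
      intro a ha b hb
      exact (Subgroup.mem_centralizer_iff.1 (h1 ha) b hb).symm
    have h1 := card_le_of_comm M A (hRp.to_le hAR) hAc
    have h2 : M.V = A := Subgroup.eq_of_le_of_card_ge le_sup_left (h1.trans (card_V_ge M))
    apply hyV
    rw [h2]
    exact (le_sup_right : Subgroup.zpowers y ≤ A) (Subgroup.mem_zpowers y)

theorem V_ne_S : M.V ≠ M.S := by
  intro h
  have h1 := card_le_of_comm M M.V (V_isPGroup M) M.V_comm
  rw [h, M.card_S] at h1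
  norm_num at h1

/-- **P6**, given that `V` is fully normalized. -/
theorem exists_not_mem (hfn : M.F.IsFullyNormalized M.V) : ∃ φ ∈ M.F.Hom M.V, φ ∉ M.E.Hom M.V := by
  by_contra hcon
  push Not at hcon
  obtain ⟨y, hyn, hy0, ⟨k, hk⟩, x₁, hx₁, hx₁y⟩ := exists_y M
  have hyn' := Subgroup.mem_normalizer_iff.1 hyn
  let α : MulAut M.V :=
    { toFun := fun x => ⟨y * x * y⁻¹, (hyn' x).1 x.2⟩
      invFun := fun x => ⟨y⁻¹ * x * y, by
        rw [SetLike.mem_coe.symm, SetLike.mem_coe, hyn']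
        have : y * (y⁻¹ * (x : G) * y) * y⁻¹ = x := by group
        rw [this]
        exact x.2⟩
      left_inv := fun x => Subtype.ext (by
        show y⁻¹ * (y * (x : G) * y⁻¹) * y = x
        group)
      right_inv := fun x => Subtype.ext (by
        show y * (y⁻¹ * (x : G) * y) * y⁻¹ = x
        group)
      map_mul' := fun x z => Subtype.ext (by
        show y * ((x : G) * z) * y⁻¹ = (y * (x : G) * y⁻¹) * (y * z * y⁻¹)
        group) }
  have hαa : ∀ x : M.V, ((α x : M.V) : G) = y * x * y⁻¹ := fun x => rfl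
  have hαF : M.V.subtype.comp α.toMonoidHom ∈ M.F.Hom M.V :=
    ⟨M.V_le, fun x => M.V_le (α x).2, y, fun x => rfl⟩
  have hαE : α ∈ M.E.autGroup M.V := (mem_autGroup_iff _ M.V_le α).2 (hcon _ hαF)
  have hEsat : M.E.IsSaturated 5 := prune_isSaturated M.S_isPGroup M.F_sat hfn M.V_comm
  have hEfn : M.E.IsFullyNormalized M.V := by
    refine ⟨M.V_le, fun Q hQ => hfn.2 Q ?_⟩
    obtain ⟨φ, hφ, hr⟩ := hQ
    exact ⟨φ, prune_le _ hφ, hr⟩
  have hfS : Finite M.S := inferInstance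
  have hsyl := sylIn_of_isFullyAutomized M.S_isPGroup
    (isFullyAutomized_of_isFullyNormalized M.S_isPGroup hEsat hEfn)
  have hpow : ∀ n : ℕ, ∀ x : M.V, (((α ^ n) x : M.V) : G) = y ^ n * x * (y ^ n)⁻¹ := by
    intro n
    induction n with
    | zero => intro x; simp
    | succ n ih =>
      intro x
      rw [pow_succ', MulAut.mul_apply, hαa, ih, pow_succ']
      group
  have hαp : IsPGroup 5 (Subgroup.zpowers α) := by
    have h1 : α ^ 5 ^ k = 1 := by
      apply MulEquiv.ext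
      intro x
      apply Subtype.ext
      rw [hpow, hk]
      simp
    intro z
    obtain ⟨m, hm⟩ := z.2
    refine ⟨k, Subtype.ext ?_⟩
    have hm' : (z : MulAut M.V) = α ^ m := hm.symm
    show (z : MulAut M.V) ^ 5 ^ k = 1
    rw [hm', ← zpow_natCast, ← zpow_mul, mul_comm, zpow_mul, zpow_natCast, h1, one_zpow]
  have hfA : Finite (M.E.autGroup M.V) := inferInstance
  obtain ⟨β, hβ, hβS⟩ := hsyl.exists_conj (Subgroup.zpowers_le.2 hαE) hαp
  obtain ⟨g, hgS, hg⟩ := (mem_autInducedBy_iff M.S M.V _).1 (hβS α (Subgroup.mem_zpowers α))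
  -- `g` normalizes `V`
  have hgn : g ∈ normalizerIn M.S M.V := by
    refine ⟨hgS, Subgroup.mem_normalizer_iff.2 fun x => ⟨fun hx => ?_, fun hx => ?_⟩⟩
    · have h1 := hg ⟨x, hx⟩
      rw [← h1]
      exact Subtype.prop _
    · obtain ⟨z, hz⟩ := (β * α * β⁻¹).surjective ⟨_, hx⟩
      have h2 := hg z
      rw [hz] at h2
      have h3 : x = (z : G) := mul_left_cancel (mul_right_cancel h2)
      rw [h3]
      exact z.2
  have hgN : g ∈ M.N := by rw [← normalizerIn_V M]; exact hgn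
  have hgV : g ∉ M.V := by
    intro hgV
    have h1 : β * α * β⁻¹ = 1 := by
      apply MulEquiv.ext
      intro x
      apply Subtype.ext
      rw [hg]
      rw [M.V_comm g hgV x x.2]
      simp
    have h2 : α = 1 := by
      have h3 : α = β⁻¹ * (β * α * β⁻¹) * β := by group
      rw [h3, h1]; group
    apply hx₁y
    have h3 := hαa ⟨x₁, hx₁⟩
    rw [h2] at h3
    have h4 : x₁ = y * x₁ * y⁻¹ := h3
    calc y * x₁ = y * x₁ * y⁻¹ * y := by group
      _ = x₁ * y := by rw [← h4]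
  -- the fixed point
  have hp0V : M.f p0 ∈ M.V := ⟨p0, p0_mem, rfl⟩
  have hα0 : α ⟨M.f p0, hp0V⟩ = ⟨M.f p0, hp0V⟩ := by
    apply Subtype.ext
    rw [hαa]
    show y * M.f p0 * y⁻¹ = M.f p0
    rw [hy0]; group
  have hfix : (β * α * β⁻¹) (β ⟨M.f p0, hp0V⟩) = β ⟨M.f p0, hp0V⟩ := by
    rw [MulAut.mul_apply, MulAut.mul_apply, MulAut.inv_apply_self, hα0]
  have hcomm : ((β ⟨M.f p0, hp0V⟩ : M.V) : G) * g = g * (β ⟨M.f p0, hp0V⟩ : M.V) := by
    have h1 := hg (β ⟨M.f p0, hp0V⟩)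
    rw [hfix] at h1
    calc ((β ⟨M.f p0, hp0V⟩ : M.V) : G) * g = g * (β ⟨M.f p0, hp0V⟩ : M.V) * g⁻¹ * g := by rw [← h1]
      _ = _ := by group
  have hL : ((β ⟨M.f p0, hp0V⟩ : M.V) : G) ∈ M.L := (mem_L_iff M (Subtype.prop _) hgN hgV).2 hcomm
  have hβD : β ∈ Dst M := prune_autGroup_le M.S_isPGroup M.F_sat hfn (V_ne_S M) (Dst M) (le_Dst M) hβ
  have h0 : M.f p0 ∈ M.L := (hβD ⟨M.f p0, hp0V⟩).2 hL
  exact p0_not_mem ((f_mem_map M).1 h0)

end Cfsg.Agent.H771.M5X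

private theorem dce_1914fc90dfc8 : _root_.True := by
  try have : _root_.True := by simp only [_root_.Cfsg.Agent.H777.M5.MX.E.congr_simp]
  exact _root_.True.intro
end

-- part: H96/M5X/Strong
section
prune_inst 0xc00042006020000000180000200020201000000000430000004000000009004020040601326021000000045020080060020000400000000000008800000000000400400092080000200000009000000000000000000000000000000000000000000000000
set_option linter.all false
open scoped Cfsg.Agent.FastGrp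

/-!
# Strongly closed subgroups of the pruned system on a Sylow 5-subgroup of the Monster (task P4 of S5230)
-/

set_option autoImplicit false
set_option linter.unusedSectionVars false

namespace Cfsg.Agent.H96.M5X

open Cfsg Cfsg.FusionSystem Cfsg.Agent.H802 Cfsg.Agent.H777.Prune Cfsg.Agent.H411.M5 Cfsg.Agent.H777.M5 Matrix

variable {G : Type} [Group G] [Finite G] (M : MX G)

theorem w_zero : M.w 0 = 1 := by
  have := M.w_mul 0 0
  rw [om_self, mul_zero, ZMod.val_zero, pow_zero, mul_one, add_zero] at this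
  exact mul_eq_left.1 this

theorem f_w (v : V6) : M.f ⟨v, 0, 0, 0⟩ = M.w v := by
  rw [M.f_apply]
  simp

theorem f_x (c : ZMod 5) : M.f ⟨0, c, 0, 0⟩ = M.x ^ c.val := by
  rw [M.f_apply]
  simp [w_zero]

theorem val_one5 : (1 : ZMod 5).val = 1 := rfl

theorem w_mem (v : V6) : M.w v ∈ M.S := ⟨⟨v, 0, 0, 0⟩, f_w M v⟩

theorem x_mem : M.x ∈ M.S := ⟨⟨0, 1, 0, 0⟩, by rw [f_x, val_one5, pow_one]⟩

theorem a_mem : M.a ∈ M.S := ⟨⟨0, 0, 1, 0⟩, by rw [M.f_apply]; simp [w_zero, val_one5]⟩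

theorem b_mem : M.b ∈ M.S := ⟨⟨0, 0, 0, 1⟩, by rw [M.f_apply]; simp [w_zero, val_one5]⟩

theorem w_comm {u v : V6} (h : M.w u * M.w v = M.w v * M.w u) : om u v = 0 := by
  have h1 := PDat.w_conj M.toPData u v
  rw [h] at h1
  exact PDat.x_pow_eq_one M.toPData (left_eq_mul.1 h1)

theorem w_inj {u v : V6} (h : M.w u = M.w v) : u = v := by
  rw [← f_w, ← f_w] at h
  exact congrArg PG.v (M.f_injective h)

theorem w_inv (v : V6) : (M.w v)⁻¹ = M.w (-v) := by
  have h := M.w_mul v (-v)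
  rw [om_neg_right, om_self, neg_zero, mul_zero, ZMod.val_zero, pow_zero, mul_one, add_neg_cancel, w_zero] at h
  exact inv_eq_of_mul_eq_one_right h

theorem x_comm_S {s : G} (hs : s ∈ M.S) : M.x * s = s * M.x := by
  obtain ⟨p, rfl⟩ := hs
  have hx : M.x = M.f ⟨0, 1, 0, 0⟩ := by rw [f_x, val_one5, pow_one]
  rw [hx, ← map_mul, ← map_mul]
  congr 1
  exact ((Subgroup.mem_center_iff.1 (mem_center.2 ⟨rfl, rfl, rfl⟩ : (⟨0, 1, 0, 0⟩ : PG) ∈ Subgroup.center PG)) p).symm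

/-- conjugation maps on nonabelian subgroups belong to the pruned system -/
theorem conj_mem_E {P : Subgroup G} {g x y : G} (hP : P ≤ M.S) (hx : x ∈ P) (hy : y ∈ P)
    (h : x * y ≠ y * x) (hg : ∀ x ∈ P, g * x * g⁻¹ ∈ M.S) : conjHom P g ∈ M.E.Hom P :=
  mem_prune (M.not_below_of_nab hx hy h) ⟨hP, fun x => hg x x.2, g, fun x => rfl⟩

theorem closure_le_S {e p₁ p₂ : G} (he : e ∈ M.S) (h1 : p₁ ∈ M.S) (h2 : p₂ ∈ M.S) :
    Subgroup.closure ({e, p₁, p₂} : Set G) ≤ M.S := by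
  rw [Subgroup.closure_le]
  rintro x (rfl | rfl | rfl)
  · exact he
  · exact h1
  · exact h2

theorem closure_conj {m e p₁ p₂ : G} (he : m * e * m⁻¹ ∈ M.S) (h1 : m * p₁ * m⁻¹ ∈ M.S) (h2 : m * p₂ * m⁻¹ ∈ M.S) :
    ∀ x ∈ Subgroup.closure ({e, p₁, p₂} : Set G), m * x * m⁻¹ ∈ M.S := by
  have h : Subgroup.closure ({e, p₁, p₂} : Set G) ≤ M.S.comap (MulAut.conj m).toMonoidHom := by
    rw [Subgroup.closure_le]
    rintro x (rfl | rfl | rfl)
    · exact he
    · exact h1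
    · exact h2
  exact fun x hx => h hx

/-- the map on `⟨e, p₁, p₂⟩` -/
theorem map_mem {m e p₁ p₂ : G} (he : e ∈ M.S) (h1 : p₁ ∈ M.S) (h2 : p₂ ∈ M.S) (hne : p₁ * p₂ ≠ p₂ * p₁)
    (hem : m * e * m⁻¹ ∈ M.S) (h1m : m * p₁ * m⁻¹ ∈ M.S) (h2m : m * p₂ * m⁻¹ ∈ M.S) :
    conjHom (Subgroup.closure ({e, p₁, p₂} : Set G)) m ∈ M.E.Hom (Subgroup.closure ({e, p₁, p₂} : Set G)) :=
  conj_mem_E M (closure_le_S M he h1 h2) (Subgroup.subset_closure (by simp)) (Subgroup.subset_closure (by simp)) hne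
    (closure_conj M hem h1m h2m)

theorem move {A : Subgroup G} (hA : M.E.StronglyClosed A) {m e p₁ p₂ : G} (he : e ∈ A) (h1 : p₁ ∈ M.S) (h2 : p₂ ∈ M.S)
    (hne : p₁ * p₂ ≠ p₂ * p₁) (hem : m * e * m⁻¹ ∈ M.S) (h1m : m * p₁ * m⁻¹ ∈ M.S) (h2m : m * p₂ * m⁻¹ ∈ M.S) :
    m * e * m⁻¹ ∈ A := by
  have hmem := map_mem M (hA.1 he) h1 h2 hne hem h1m h2m
  have hz : Subgroup.zpowers e ≤ Subgroup.closure ({e, p₁, p₂} : Set G) := by
    rw [Subgroup.zpowers_le]
    exact Subgroup.subset_closure (by simp)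
  have hr := restrict_mem hmem hz
  exact hA.2 (Subgroup.zpowers e) (by rw [Subgroup.zpowers_le]; exact he) _ hr ⟨e, Subgroup.mem_zpowers e⟩

/-! ### the elements `a` and `x` -/

theorem orderOf_x : orderOf M.x = 5 := orderOf_eq_prime M.x_five M.x_ne

theorem a_ne : M.a ≠ 1 := by
  intro h
  have h1 := M.a_w (Pi.single 3 1)
  rw [h, one_mul, inv_one, mul_one] at h1
  exact absurd (w_inj M h1) (by decide +kernel)

/-- an element commuting with `x ^ n` commutes with `x` -/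
theorem comm_x {n : ℕ} (hn : M.x ^ n ≠ 1) {g : G} (h : g * M.x ^ n = M.x ^ n * g) : g * M.x = M.x * g := by
  have h5 : ¬ 5 ∣ n := by
    rintro ⟨k, rfl⟩
    exact hn (by rw [pow_mul, M.x_five, one_pow])
  have hc : Nat.Coprime n (orderOf M.x) := by
    rw [orderOf_x]
    exact ((Nat.Prime.coprime_iff_not_dvd Nat.prime_five).2 h5).symm
  obtain ⟨m, hm⟩ := exists_pow_eq_self_of_coprime hc
  have h1 : Commute g (M.x ^ n) := h
  have h2 := h1.pow_right m
  rw [hm] at h2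
  exact h2

theorem b_w1 : M.b * M.w (Pi.single 1 1) ≠ M.w (Pi.single 1 1) * M.b := by
  intro h
  have h1 := M.b_w (Pi.single 1 1)
  rw [h, mul_inv_cancel_right] at h1
  exact absurd (w_inj M h1) (by decide +kernel)

theorem a_w1 : M.a * M.w (Pi.single 1 1) = M.w (Pi.single 1 1) * M.a := by
  have h1 := M.a_w (Pi.single 1 1)
  rw [show aM *ᵥ (Pi.single 1 1) = (Pi.single 1 1 : V6) by decide +kernel] at h1
  exact mul_inv_eq_iff_eq_mul.1 h1

/-- an element `m` taking `a` to a power of `x`, `b` and `w(e₁)` into `S` -/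
theorem exists_m : ∃ (m : G) (n : ℕ), M.x ^ n ≠ 1 ∧ m * M.a * m⁻¹ = M.x ^ n ∧ m * M.b * m⁻¹ ∈ M.S ∧
    m * M.w (Pi.single 1 1) * m⁻¹ ∈ M.S := by
  obtain ⟨g, n, hg⟩ := M.a_conj
  have hn : M.x ^ n ≠ 1 := by
    rw [← hg]
    intro h
    apply a_ne M
    have h1 : g * M.a = g := mul_inv_eq_one.1 h
    exact mul_eq_left.1 h1
  set C := Subgroup.centralizer ({M.x} : Set G) with hC
  have hSC : (M.T : Subgroup G) ≤ C := by
    intro s hs
    exact Subgroup.mem_centralizer_singleton_iff.2 (x_comm_S M hs).symm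
  set K := M.S ⊓ Subgroup.centralizer ({M.a} : Set G) with hK
  have hKp : IsPGroup 5 K := M.S_isPGroup.to_le inf_le_left
  set K' := K.map (MulAut.conj g).toMonoidHom with hK'
  have hK'p : IsPGroup 5 K' := hKp.map _
  have hK'C : K' ≤ C := by
    rintro _ ⟨k, hk, rfl⟩
    apply Subgroup.mem_centralizer_singleton_iff.2
    apply comm_x M hn
    have h1 := Subgroup.mem_centralizer_singleton_iff.1 hk.2
    show g * k * g⁻¹ * M.x ^ n = M.x ^ n * (g * k * g⁻¹)
    rw [← hg]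
    calc g * k * g⁻¹ * (g * M.a * g⁻¹) = g * (k * M.a) * g⁻¹ := by group
      _ = g * (M.a * k) * g⁻¹ := by rw [h1]
      _ = g * M.a * g⁻¹ * (g * k * g⁻¹) := by group
  have hK'' : IsPGroup 5 (K'.subgroupOf C) :=
    hK'p.of_injective (Subgroup.subgroupOfEquivOfLe hK'C).toMonoidHom (Subgroup.subgroupOfEquivOfLe hK'C).injective
  obtain ⟨Q, hQ⟩ := hK''.exists_le_sylow
  obtain ⟨h, hh⟩ := MulAction.exists_smul_eq C Q (M.T.subtype hSC)
  have key : ∀ k ∈ K, (h : G) * g * k * ((h : G) * g)⁻¹ ∈ M.S := by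
    intro k hk
    have h1 : g * k * g⁻¹ ∈ K' := ⟨k, hk, rfl⟩
    have h2 : (⟨g * k * g⁻¹, hK'C h1⟩ : C) ∈ (Q : Subgroup C) := hQ h1
    have h3 : h * ⟨g * k * g⁻¹, hK'C h1⟩ * h⁻¹ ∈ ((h • Q : Sylow 5 C) : Subgroup C) := by
      rw [Sylow.coe_subgroup_smul]
      exact Subgroup.smul_mem_pointwise_smul _ _ _ h2
    rw [hh] at h3
    have h4 : (h : G) * (g * k * g⁻¹) * (h : G)⁻¹ ∈ M.S := h3
    have e : (h : G) * g * k * ((h : G) * g)⁻¹ = (h : G) * (g * k * g⁻¹) * (h : G)⁻¹ := by group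
    rw [e]
    exact h4
  refine ⟨h * g, n, hn, ?_, key _ ⟨b_mem M, ?_⟩, key _ ⟨w_mem M _, ?_⟩⟩
  · have e : (h : G) * g * M.a * ((h : G) * g)⁻¹ = (h : G) * (g * M.a * g⁻¹) * (h : G)⁻¹ := by group
    have h5 : Commute (h : G) M.x := Subgroup.mem_centralizer_singleton_iff.1 h.2
    rw [e, hg, (h5.pow_right n).eq, mul_inv_cancel_right]
  · exact Subgroup.mem_centralizer_singleton_iff.2 M.a_b.symm
  · exact Subgroup.mem_centralizer_singleton_iff.2 (a_w1 M).symm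

/-! ### the element `r` -/

theorem comp_w {g h : G} {A B : Matrix (Fin 6) (Fin 6) (ZMod 5)} (hg : ∀ v, g * M.w v * g⁻¹ = M.w (A *ᵥ v))
    (hh : ∀ v, h * M.w v * h⁻¹ = M.w (B *ᵥ v)) : ∀ v, (g * h) * M.w v * (g * h)⁻¹ = M.w ((A * B) *ᵥ v) := by
  intro v
  have e : (g * h) * M.w v * (g * h)⁻¹ = g * (h * M.w v * h⁻¹) * g⁻¹ := by group
  rw [e, hh, hg, mulVec_mulVec]

theorem pow_w {g : G} {A : Matrix (Fin 6) (Fin 6) (ZMod 5)} (hg : ∀ v, g * M.w v * g⁻¹ = M.w (A *ᵥ v)) (n : ℕ) :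
    ∀ v, g ^ n * M.w v * (g ^ n)⁻¹ = M.w ((A ^ n) *ᵥ v) := by
  induction n with
  | zero => intro v; simp
  | succ n ih =>
    rw [pow_succ, pow_succ]
    exact comp_w M ih hg

/-- two elements of `C(x) ∩ C(z)` acting in the same way on `W` -/
theorem eq_mul_x {g h : G} (hgx : Commute g M.x) (hgz : Commute g M.z) (hhx : Commute h M.x) (hhz : Commute h M.z)
    {A : Matrix (Fin 6) (Fin 6) (ZMod 5)} (hg : ∀ v, g * M.w v * g⁻¹ = M.w (A *ᵥ v))
    (hh : ∀ v, h * M.w v * h⁻¹ = M.w (A *ᵥ v)) : ∃ k ∈ Subgroup.zpowers M.x, g = h * k := by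
  refine ⟨h⁻¹ * g, M.ker _ ?_ ?_ ?_, by group⟩
  · exact (hhx.inv_left.mul_left hgx).eq
  · exact (hhz.inv_left.mul_left hgz).eq
  · intro v
    have e : h⁻¹ * g * M.w v * (h⁻¹ * g)⁻¹ = h⁻¹ * (g * M.w v * g⁻¹) * h := by group
    rw [e, hg, ← hh]
    group

/-- the element `r` -/
def rr : G := M.j * M.b' * M.a * M.b' * M.b * M.a * M.b' * M.b * M.a * M.b'

theorem rr_w : ∀ v, rr M * M.w v * (rr M)⁻¹ = M.w (rM *ᵥ v) :=
  comp_w M (comp_w M (comp_w M (comp_w M (comp_w M (comp_w M (comp_w M (comp_w M (comp_w M M.j_w M.b'_w) M.a_w) M.b'_w)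
    M.b_w) M.a_w) M.b'_w) M.b_w) M.a_w) M.b'_w

theorem rr_x : Commute (rr M) M.x := by
  have hj : Commute M.j M.x := M.jx
  have hb' : Commute M.b' M.x := M.b'x
  have ha : Commute M.a M.x := M.x_a.symm
  have hb : Commute M.b M.x := M.x_b.symm
  exact (((((((((hj.mul_left hb').mul_left ha).mul_left hb').mul_left hb).mul_left ha).mul_left hb').mul_left
    hb).mul_left ha).mul_left hb')

theorem rr_z : Commute (rr M) M.z := by
  have hj : Commute M.j M.z := M.zj.symm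
  have hb' : Commute M.b' M.z := M.zb'.symm
  have ha : Commute M.a M.z := M.za.symm
  have hb : Commute M.b M.z := M.zb.symm
  exact (((((((((hj.mul_left hb').mul_left ha).mul_left hb').mul_left hb).mul_left ha).mul_left hb').mul_left
    hb).mul_left ha).mul_left hb')

theorem rr_a : ∃ k ∈ Subgroup.zpowers M.x, rr M * M.a * (rr M)⁻¹ = M.a ^ 3 * M.b ^ 3 * k := by
  have ha : Commute M.a M.x := M.x_a.symm
  have hb : Commute M.b M.x := M.x_b.symm
  have ha' : Commute M.a M.z := M.za.symm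
  have hb' : Commute M.b M.z := M.zb.symm
  obtain ⟨k, hk, he⟩ := eq_mul_x M (g := rr M * M.a) (h := M.a ^ 3 * M.b ^ 3 * rr M) ((rr_x M).mul_left ha)
    ((rr_z M).mul_left ha') (((ha.pow_left 3).mul_left (hb.pow_left 3)).mul_left (rr_x M))
    (((ha'.pow_left 3).mul_left (hb'.pow_left 3)).mul_left (rr_z M)) (comp_w M (rr_w M) M.a_w)
    (by
      rw [rM_aM]
      exact comp_w M (comp_w M (pow_w M M.a_w 3) (pow_w M M.b_w 3)) (rr_w M))
  refine ⟨k, hk, ?_⟩
  obtain ⟨n, rfl⟩ := Subgroup.mem_zpowers_iff.1 hk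
  have h1 := ((rr_x M).zpow_right n).eq
  rw [he, mul_assoc (M.a ^ 3 * M.b ^ 3), h1, ← mul_assoc, mul_inv_cancel_right]

/-! ### strongly closed subgroups -/

theorem w05 : M.w (Pi.single 0 1) * M.w (Pi.single 5 1) ≠ M.w (Pi.single 5 1) * M.w (Pi.single 0 1) := by
  intro h
  exact absurd (w_comm M h) (by decide +kernel)

/-- **Strongly closed subgroups.** -/
theorem stronglyClosed_E {A : Subgroup G} (hA : M.E.StronglyClosed A) : A = ⊥ ∨ A = M.S := by
  by_cases hA1 : A = ⊥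
  · exact Or.inl hA1
  right
  have hAS : A ≤ M.S := hA.1
  have hconj : ∀ s ∈ M.S, ∀ a ∈ A, s * a * s⁻¹ ∈ A := by
    intro s hs a ha
    have h1 : conjHom A s ∈ M.E.Hom A := M.E.conj_mem hAS hs
    exact hA.2 A le_rfl _ h1 ⟨a, ha⟩
  -- `x ∈ A`
  have hx : M.x ∈ A := by
    have hn : (A.subgroupOf M.S).Normal := ⟨fun a ha s => hconj _ s.2 _ ha⟩
    have hne : A.subgroupOf M.S ≠ ⊥ := by
      intro h
      apply hA1
      rw [Subgroup.subgroupOf_eq_bot] at h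
      rw [eq_bot_iff]
      intro x hx
      exact h.le_bot ⟨hx, hAS hx⟩
    obtain ⟨b, hb, hb1, hbc⟩ := Cfsg.Agent.H777.PGrp.inf_center_ne_bot M.S_isPGroup hne hn
    obtain ⟨p, hp⟩ := b.2
    have hpc : p ∈ Subgroup.center PG := by
      rw [Subgroup.mem_center_iff]
      intro q
      apply M.f_injective
      rw [map_mul, map_mul, hp]
      exact congrArg Subtype.val (hbc ⟨M.f q, M.mem_S⟩)
    obtain ⟨h1, h2, h3⟩ := mem_center.1 hpc
    have hb2 : (b : G) = M.x ^ p.c.val := by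
      rw [← hp, ← f_x]
      congr 1
      exact PG.ext h1 rfl h2 h3
    have hbA : M.x ^ p.c.val ∈ A := hb2 ▸ hb
    have h4 : M.x ^ p.c.val ≠ 1 := fun h => hb1 (Subtype.ext (hb2.trans h))
    have h5 : ¬ 5 ∣ p.c.val := by
      rintro ⟨k, hk⟩
      exact h4 (by rw [hk, pow_mul, M.x_five, one_pow])
    have hc : Nat.Coprime p.c.val (orderOf M.x) := by
      rw [orderOf_x]
      exact ((Nat.Prime.coprime_iff_not_dvd Nat.prime_five).2 h5).symm
    obtain ⟨m, hm⟩ := exists_pow_eq_self_of_coprime hc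
    rw [← hm]
    exact A.pow_mem hbA m
  -- `a ∈ A`
  have ha : M.a ∈ A := by
    obtain ⟨m, n, hn, hma, hmb, hmw⟩ := exists_m M
    have h1 := move M hA (m := m⁻¹) (e := M.x ^ n) (p₁ := m * M.b * m⁻¹) (p₂ := m * M.w (Pi.single 1 1) * m⁻¹)
      (A.pow_mem hx n) hmb hmw ?_ ?_ ?_ ?_
    · have e : m⁻¹ * M.x ^ n * m⁻¹⁻¹ = M.a := by rw [← hma]; group
      rwa [e] at h1
    · intro h
      apply b_w1 M
      have e1 : m * M.b * m⁻¹ * (m * M.w (Pi.single 1 1) * m⁻¹) = m * (M.b * M.w (Pi.single 1 1)) * m⁻¹ := by group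
      have e2 : m * M.w (Pi.single 1 1) * m⁻¹ * (m * M.b * m⁻¹) = m * (M.w (Pi.single 1 1) * M.b) * m⁻¹ := by group
      rw [e1, e2] at h
      exact mul_left_cancel (mul_right_cancel h)
    · have e : m⁻¹ * M.x ^ n * m⁻¹⁻¹ = M.a := by rw [← hma]; group
      rw [e]
      exact a_mem M
    · have e : m⁻¹ * (m * M.b * m⁻¹) * m⁻¹⁻¹ = M.b := by group
      rw [e]
      exact b_mem M
    · have e : m⁻¹ * (m * M.w (Pi.single 1 1) * m⁻¹) * m⁻¹⁻¹ = M.w (Pi.single 1 1) := by group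
      rw [e]
      exact w_mem M _
  -- `W ≤ A`
  let D : AddSubgroup V6 :=
    { carrier := {v | M.w v ∈ A}
      zero_mem' := by
        show M.w 0 ∈ A
        rw [w_zero]
        exact A.one_mem
      add_mem' := by
        intro u v (hu : M.w u ∈ A) (hv : M.w v ∈ A)
        show M.w (u + v) ∈ A
        have h1 := A.mul_mem hu hv
        rw [M.w_mul] at h1
        exact (A.mul_mem_cancel_right (A.pow_mem hx _)).1 h1
      neg_mem' := by
        intro v (hv : M.w v ∈ A)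
        show M.w (-v) ∈ A
        rw [← w_inv]
        exact A.inv_mem hv }
  have hD : ∀ v, v ∈ D ↔ M.w v ∈ A := fun v => Iff.rfl
  have hDa : ∀ u, u - aM *ᵥ u ∈ D := by
    intro u
    rw [hD]
    have h1 := A.mul_mem (hconj _ (w_mem M u) _ ha) (A.inv_mem ha)
    have e : M.w u * M.a * (M.w u)⁻¹ * M.a⁻¹ = M.w u * (M.a * M.w u * M.a⁻¹)⁻¹ := by group
    rw [e, M.a_w, w_inv, M.w_mul] at h1
    rw [sub_eq_add_neg]
    exact (A.mul_mem_cancel_right (A.pow_mem hx _)).1 h1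
  have d0 : Pi.single 0 1 ∈ D := by
    have h := hDa (Pi.single 3 1)
    rwa [show (Pi.single 3 1 : V6) - aM *ᵥ Pi.single 3 1 = Pi.single 0 1 by decide +kernel] at h
  have d1 : Pi.single 1 1 ∈ D := by
    have h := hDa (Pi.single 4 1)
    rwa [show (Pi.single 4 1 : V6) - aM *ᵥ Pi.single 4 1 = Pi.single 1 1 by decide +kernel] at h
  have d3 : Pi.single 3 1 ∈ D := by
    have h := hDa (Pi.single 2 1)
    have h1 := D.sub_mem (D.nsmul_mem h 2) (D.nsmul_mem d0 2)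
    rwa [show (2 • ((Pi.single 2 1 : V6) - aM *ᵥ Pi.single 2 1) - 2 • Pi.single 0 1 : V6) = Pi.single 3 1 by
      decide +kernel] at h1
  have d2 : Pi.single 2 1 ∈ D := by
    have h := hDa (Pi.single 5 1)
    have h1 := D.sub_mem (D.sub_mem h (D.nsmul_mem d0 3)) d3
    rwa [show ((Pi.single 5 1 : V6) - aM *ᵥ Pi.single 5 1 - 3 • Pi.single 0 1 - Pi.single 3 1 : V6) = Pi.single 2 1 by
      decide +kernel] at h1
  have hDj : ∀ v ∈ D, jM *ᵥ v ∈ D := by
    intro v hv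
    have h1 := move M hA (m := M.j) (e := M.w v) (p₁ := M.w (Pi.single 0 1)) (p₂ := M.w (Pi.single 5 1)) hv
      (w_mem M _) (w_mem M _) (w05 M) (by rw [M.j_w]; exact w_mem M _) (by rw [M.j_w]; exact w_mem M _)
      (by rw [M.j_w]; exact w_mem M _)
    rwa [M.j_w] at h1
  have d4 : Pi.single 4 1 ∈ D := by
    have h := hDj _ d1
    rwa [show jM *ᵥ (Pi.single 1 1 : V6) = Pi.single 4 1 by decide +kernel] at h
  have d5 : Pi.single 5 1 ∈ D := by
    have h := hDj _ d2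
    rwa [show jM *ᵥ (Pi.single 2 1 : V6) = Pi.single 5 1 by decide +kernel] at h
  have hW : ∀ v, M.w v ∈ A := by
    intro v
    rw [← hD]
    have e : v = (v 0).val • (Pi.single 0 1 : V6) + (v 1).val • (Pi.single 1 1 : V6) + (v 2).val • (Pi.single 2 1 : V6)
        + (v 3).val • (Pi.single 3 1 : V6) + (v 4).val • (Pi.single 4 1 : V6) + (v 5).val • (Pi.single 5 1 : V6) := by
      have key : ∀ c : ZMod 5, c.val • (1 : ZMod 5) = c := by decide
      funext k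
      fin_cases k <;> simp [-nsmul_eq_mul, -ZMod.natCast_val, key]
    rw [e]
    exact D.add_mem (D.add_mem (D.add_mem (D.add_mem (D.add_mem (D.nsmul_mem d0 _) (D.nsmul_mem d1 _)) (D.nsmul_mem d2 _))
      (D.nsmul_mem d3 _)) (D.nsmul_mem d4 _)) (D.nsmul_mem d5 _)
  -- `b ∈ A`
  have hb : M.b ∈ A := by
    obtain ⟨k, hk, he⟩ := rr_a M
    have hkA : k ∈ A := by
      obtain ⟨n, rfl⟩ := Subgroup.mem_zpowers_iff.1 hk
      exact A.zpow_mem hx n
    have h1 := move M hA (m := rr M) (e := M.a) (p₁ := M.w (Pi.single 0 1)) (p₂ := M.w (Pi.single 5 1)) ha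
      (w_mem M _) (w_mem M _) (w05 M) (by
        rw [he]
        exact M.S.mul_mem (M.S.mul_mem (M.S.pow_mem (a_mem M) 3) (M.S.pow_mem (b_mem M) 3)) (hAS hkA))
      (by rw [rr_w]; exact w_mem M _) (by rw [rr_w]; exact w_mem M _)
    rw [he] at h1
    have h2 := (A.mul_mem_cancel_right hkA).1 h1
    have h3 := (A.mul_mem_cancel_left (A.pow_mem ha 3)).1 h2
    have h4 := A.pow_mem h3 2
    have e : (M.b ^ 3) ^ 2 = M.b := by
      rw [← pow_mul, show 3 * 2 = 5 + 1 by norm_num, pow_add, M.b_five, one_mul, pow_one]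
    rwa [e] at h4
  refine le_antisymm hAS ?_
  rintro _ ⟨p, rfl⟩
  rw [M.f_apply]
  exact A.mul_mem (A.mul_mem (hW _) (A.pow_mem hx _)) (A.mul_mem (A.pow_mem ha _) (A.pow_mem hb _))

/-- the whole of `S` is not normal -/
theorem not_isNormal : ¬ M.E.IsNormal M.S := by
  rintro ⟨-, h⟩
  obtain ⟨m, n, hn, hma, hmb, hmw⟩ := exists_m M
  have hmem := map_mem M (m := m) (a_mem M) (b_mem M) (w_mem M (Pi.single 1 1)) (b_w1 M)
    (by rw [hma]; exact M.S.pow_mem (x_mem M) n) hmb hmw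
  set P := Subgroup.closure ({M.a, M.b, M.w (Pi.single 1 1)} : Set G) with hP
  have haP : M.a ∈ P := Subgroup.subset_closure (by simp)
  obtain ⟨ψ, hψ, h2, h3⟩ := h P _ hmem
  have hψF := prune_le _ hψ
  obtain ⟨-, -, g, hg⟩ := hψF
  have h5 : g * M.a * g⁻¹ = M.x ^ n := by
    have h6 := h2 ⟨M.a, haP⟩
    rw [hg] at h6
    exact h6.trans hma
  have hS : ∀ s ∈ M.S, g * s * g⁻¹ ∈ M.S := by
    intro s hs
    have h7 : ψ ⟨s, (le_sup_right : M.S ≤ P ⊔ M.S) hs⟩ ∈ (M.S.subgroupOf (P ⊔ M.S)).map ψ := ⟨_, hs, rfl⟩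
    rw [h3, hg] at h7
    exact h7
  have h8 := x_comm_S M (hS _ (w_mem M (Pi.single 3 1)))
  have h9 : Commute (M.x ^ n) (g * M.w (Pi.single 3 1) * g⁻¹) := (show Commute M.x _ from h8).pow_left n
  rw [← h5] at h9
  have h10 : M.a * M.w (Pi.single 3 1) = M.w (Pi.single 3 1) * M.a := by
    have h11 := h9.eq
    have e1 : g * M.a * g⁻¹ * (g * M.w (Pi.single 3 1) * g⁻¹) = g * (M.a * M.w (Pi.single 3 1)) * g⁻¹ := by group
    have e2 : g * M.w (Pi.single 3 1) * g⁻¹ * (g * M.a * g⁻¹) = g * (M.w (Pi.single 3 1) * M.a) * g⁻¹ := by group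
    rw [e1, e2] at h11
    exact mul_left_cancel (mul_right_cancel h11)
  have h12 := M.a_w (Pi.single 3 1)
  rw [h10, mul_inv_cancel_right] at h12
  exact absurd (w_inj M h12) (by decide +kernel)

end Cfsg.Agent.H96.M5X
end

-- part: H738/M5/PGa
section
set_option linter.all false
open scoped Cfsg.Agent.FastGrp

/-!
# Facts on `PG` needed for `not_conj_SA` (helper738)
-/

set_option autoImplicit false

namespace Cfsg.Agent.H738.M5

open Cfsg.Agent.H411.M5 Cfsg.Agent.H777.M5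
open scoped commutatorElement

theorem mul_inv_v {p q : PG} (hi : p.i = q.i) (hj : p.j = q.j) : (p * q⁻¹).v = p.v - q.v := by
  rw [PG.mul_v, PG.inv_v, act_neg, act_act, hi, hj, add_neg_cancel, add_neg_cancel, act_one,
    sub_eq_add_neg]

/-- membership in the second centre -/
theorem mul_inv_mem_SL {p q : PG} (hi : p.i = q.i) (hj : p.j = q.j) :
    p * q⁻¹ ∈ PG.SL ↔ p.v 1 = q.v 1 ∧ p.v 2 = q.v 2 ∧ p.v 3 = q.v 3 ∧ p.v 4 = q.v 4 ∧
      p.v 5 = q.v 5 := by
  rw [PG.mem_SL, mul_inv_v hi hj]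
  simp only [Pi.sub_apply, PG.mul_i, PG.mul_j, PG.inv_i, PG.inv_j, hi, hj, add_neg_cancel, true_and,
    sub_eq_zero]

theorem comm_mem_SL {y c : PG} : y * c * y⁻¹ * c⁻¹ ∈ PG.SL ↔
    (y * c).v 1 = (c * y).v 1 ∧ (y * c).v 2 = (c * y).v 2 ∧ (y * c).v 3 = (c * y).v 3 ∧
      (y * c).v 4 = (c * y).v 4 ∧ (y * c).v 5 = (c * y).v 5 := by
  have e : y * c * y⁻¹ * c⁻¹ = (y * c) * (c * y)⁻¹ := by group
  rw [e, mul_inv_mem_SL (by rw [PG.mul_i, PG.mul_i, add_comm]) (by rw [PG.mul_j, PG.mul_j, add_comm])]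

/-- `[SA, SC] ≤ SL` -/
theorem comm_SA {y c : PG} (hy : y ∈ PG.SA) (hc : c ∈ PG.SC) : y * c * y⁻¹ * c⁻¹ ∈ PG.SL := by
  obtain ⟨h1, h2, h3, h4, h5⟩ := hy
  have hc5 : c.v 5 = 0 := hc
  rw [comm_mem_SL]
  refine ⟨?_, ?_, ?_, ?_, ?_⟩
  · simp [act1, h1, h2, h3, h4, h5, add_comm]
  · simp [act2, h1, h3, h5, add_comm]
  · simp [act3, h1, h2, h3, h4, h5, add_comm]
  · simp [act4, h2, h4, h5, add_comm]
  · simp [act5, h5, hc5, add_comm]

/-- the converse -/
theorem mem_SA_of_comm {y : PG} (hy : y ∈ PG.SC) (h : ∀ c ∈ PG.SC, y * c * y⁻¹ * c⁻¹ ∈ PG.SL) :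
    y ∈ PG.SA := by
  have hy5 : y.v 5 = 0 := hy
  have h1 := comm_mem_SL.1 (h ⟨Pi.single 2 1, 0, 0, 0⟩ (by
    show (Pi.single 2 1 : V6) 5 = 0
    simp))
  have h2 := comm_mem_SL.1 (h ⟨0, 0, 1, 0⟩ rfl)
  obtain ⟨a1, -, a3, -, -⟩ := h1
  obtain ⟨b1, -, b3, -, -⟩ := h2
  have n12 : (1 : Fin 6) ≠ 2 := by decide
  have n42 : (4 : Fin 6) ≠ 2 := by decide
  have n52 : (5 : Fin 6) ≠ 2 := by decide
  have n32 : (3 : Fin 6) ≠ 2 := by decide
  simp only [PG.mul_v, Pi.add_apply, act1, act3, Pi.zero_apply, Pi.single_apply, if_neg n12,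
    if_neg n42, if_neg n52, if_neg n32, if_true] at a1 a3 b1 b3
  have hj : y.j = 0 := by linear_combination a1
  have hi : y.i = 0 := by linear_combination 3 * a3 - y.i * Cfsg.Agent.H411.M5.h5
  have h4 : y.v 4 = 0 := by linear_combination b1
  have h2 : y.v 2 = 0 := by
    linear_combination -3 * b3 - y.v 2 * Cfsg.Agent.H411.M5.h5 + 3 * hy5
  exact ⟨hi, hj, h2, h4, hy5⟩

/-- `SC` centralizes `SL` -/
theorem comm_SC_SL {y l : PG} (hy : y ∈ PG.SC) (hl : l ∈ PG.SL) : y * l = l * y := by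
  have h1 : l ∈ Subgroup.upperCentralSeries PG 2 := by
    obtain ⟨h1, h2, h3, h4, h5, h6, h7⟩ := hl
    refine mem_Z2.2 ⟨⟨l.v 0, ?_⟩, h1, h2⟩
    funext k
    fin_cases k
    · simp
    · simpa using h3
    · simpa using h4
    · simpa using h5
    · simpa using h6
    · simpa using h7
  exact ((Subgroup.mem_centralizer_iff.1 (mem_centralizer_Z2.2 hy)) l h1).symm

/-- only `SC` centralizes `SL` -/
theorem mem_SC_of_comm {y : PG} (h : y * ⟨Pi.single 0 1, 0, 0, 0⟩ = ⟨Pi.single 0 1, 0, 0, 0⟩ * y) :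
    y ∈ PG.SC := by
  show y.v 5 = 0
  have h1 := congrArg PG.c h
  simp only [PG.mul_c, act_one, act_single_zero, om_single_zero] at h1
  rw [om_swap y.v, om_single_zero] at h1
  linear_combination -h1 - y.v 5 * Cfsg.Agent.H411.M5.h5

theorem e0_mem_SL : (⟨Pi.single 0 1, 0, 0, 0⟩ : PG) ∈ PG.SL :=
  ⟨rfl, rfl, by simp, by simp, by simp, by simp, by simp⟩

theorem x_mem_SL : (⟨0, 1, 0, 0⟩ : PG) ∈ PG.SL := ⟨rfl, rfl, rfl, rfl, rfl, rfl, rfl⟩

theorem x_mem_center : (⟨0, 1, 0, 0⟩ : PG) ∈ Subgroup.center PG := mem_center.2 ⟨rfl, rfl, rfl⟩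

theorem card_SC : Nat.card PG.SC = 5 ^ 8 := by
  have h : PG.SC = lastHom.ker := by
    ext g
    rw [mem_ker, PG.mem_SC]
  rw [h, card_ker]

/-- `[SW, SW] ≤ Z` -/
theorem comm_SW {y z : PG} (hy : y ∈ PG.SW) (hz : z ∈ PG.SW) :
    (y * z * y⁻¹ * z⁻¹ : PG) ∈ Subgroup.center PG := by
  have h1 : ⁅y, z⁆ ∈ Subgroup.center PG := by
    rw [comm_mem_center, PG.mul_v, PG.mul_v, hy.1, hy.2, hz.1, hz.2, act_one, act_one, add_comm]
  rwa [commutatorElement_def] at h1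

/-- `W ∩ C(L)` -/
def SX : Subgroup PG := PG.SW ⊓ PG.SC

theorem card_SX : 5 ^ 6 ≤ Nat.card SX := by
  let f : ↥PG.SC →* Multiplicative (ZMod 5 × ZMod 5) := ijHom.comp PG.SC.subtype
  have h1 : Nat.card PG.SC = Nat.card f.range * Nat.card f.ker := by
    rw [← Subgroup.card_mul_index f.ker, Subgroup.index_ker, mul_comm]
  have h2 : Nat.card f.range ≤ 25 := by
    have h3 := Nat.card_le_card_of_injective (fun z : f.range => (z : Multiplicative (ZMod 5 × ZMod 5)))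
      Subtype.val_injective
    have h4 : Nat.card (Multiplicative (ZMod 5 × ZMod 5)) = 25 := by
      rw [Nat.card_congr Multiplicative.toAdd, Nat.card_prod]; simp
    rwa [h4] at h3
  have h5 : Nat.card f.ker ≤ Nat.card SX := by
    refine Nat.card_le_card_of_injective (fun z : f.ker => (⟨((z : ↥PG.SC) : PG), ?_⟩ : SX)) ?_
    · refine ⟨?_, z.1.2⟩
      exact ijHom_eq_one.1 z.2
    · intro z z' h
      exact Subtype.ext (Subtype.ext (congrArg (fun t : SX => (t : PG)) h))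
  rw [card_SC] at h1
  by_contra hlt
  push Not at hlt
  have h6 : Nat.card f.ker < 5 ^ 6 := lt_of_le_of_lt h5 hlt
  have h7 : Nat.card f.range * Nat.card f.ker < 25 * 5 ^ 6 :=
    lt_of_le_of_lt (Nat.mul_le_mul_right _ h2) (Nat.mul_lt_mul_of_pos_left h6 (by norm_num))
  rw [← h1] at h7
  norm_num at h7

end Cfsg.Agent.H738.M5
end

-- part: H738/M5/NotConj
section
prune_inst 0xc01002001022000000000000200000000000000000030001014004000000800000400600300021000000000000000020008800000000000000000000000400000000400092080000200000001000000000000000000000000000000000000000000000000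
set_option linter.all false
open scoped Cfsg.Agent.FastGrp

/-!
# `SL, SV` are not conjugate to `SL, SA` (helper738, task S5230-P3)
-/

set_option autoImplicit false

namespace Cfsg.Agent.H738.M5

open Cfsg.Agent.H411.M5 Cfsg.Agent.H777.M5 Cfsg.Agent.H777.M5.MX Matrix
open scoped commutatorElement

variable {G : Type} [Group G] [Finite G] (M : MX G)

theorem w_zero : M.w 0 = 1 := by
  have := M.w_mul 0 0
  rw [add_zero, om_zero_left, mul_zero, ZMod.val_zero, pow_zero, mul_one] at this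
  exact mul_eq_left.1 this

theorem f_w (v : V6) : M.f ⟨v, 0, 0, 0⟩ = M.w v := by
  rw [f_apply]
  simp

theorem f_x : M.f ⟨0, 1, 0, 0⟩ = M.x := by
  rw [f_apply]
  show M.w 0 * M.x ^ (1 : ZMod 5).val * (M.a ^ (0 : ZMod 5).val * M.b ^ (0 : ZMod 5).val) = M.x
  rw [w_zero, ZMod.val_one, ZMod.val_zero, pow_zero, pow_zero, pow_one, one_mul, mul_one, mul_one]

theorem x_pow_val (n : ℕ) : M.x ^ ((n : ZMod 5)).val = M.x ^ n := by
  rw [ZMod.val_natCast]
  conv_rhs => rw [← Nat.div_add_mod n 5, pow_add, pow_mul, M.x_five, one_pow, one_mul]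

theorem mem_W {y : G} : y ∈ M.W ↔ ∃ (v : V6) (n : ℕ), y = M.w v * M.x ^ n := by
  constructor
  · rintro ⟨p, ⟨h1, h2⟩, rfl⟩
    refine ⟨p.v, p.c.val, ?_⟩
    rw [f_apply, h1, h2]
    simp
  · rintro ⟨v, n, rfl⟩
    refine ⟨⟨v, n, 0, 0⟩, ⟨rfl, rfl⟩, ?_⟩
    rw [f_apply]
    simp only [ZMod.val_zero, pow_zero, mul_one, x_pow_val]

theorem f_comm_x (p : PG) : M.f p * M.x = M.x * M.f p := by
  rw [← f_x, ← map_mul, ← map_mul]
  congr 1
  exact (Subgroup.mem_center_iff.1 x_mem_center p)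

/-- `W` is normal in `C(x)`. -/
theorem W_conj {g y : G} (hg : g * M.x = M.x * g) (hy : y ∈ M.W) : g * y * g⁻¹ ∈ M.W := by
  obtain ⟨v, n, rfl⟩ := (mem_W M).1 hy
  obtain ⟨v', c, h⟩ := M.normal g hg v
  refine (mem_W M).2 ⟨v', c + n, ?_⟩
  have h1 : g * M.x ^ n = M.x ^ n * g := ((show Commute g M.x from hg).pow_right n).eq
  calc g * (M.w v * M.x ^ n) * g⁻¹ = (g * M.w v * g⁻¹) * (g * M.x ^ n * g⁻¹) := by group
    _ = _ := by rw [h, h1, mul_inv_cancel_right, pow_add, mul_assoc]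

/-- A 5-group normalized by `S` is contained in `S`. -/
theorem le_S_of_normal {R : Subgroup G} (hR : IsPGroup 5 R)
    (hn : ∀ s ∈ M.S, ∀ r ∈ R, s * r * s⁻¹ ∈ R) : R ≤ M.S := by
  have h1 : IsPGroup 5 (M.S ⊔ R : Subgroup G) :=
    M.S_isPGroup.to_sup_of_normal_right' hR (H427.le_normalizer_of_conj hn)
  have h2 := M.T.3 h1 (show (M.T : Subgroup G) ≤ M.S ⊔ R from le_sup_left)
  have h3 : M.S ⊔ R = M.S := h2
  rw [← h3]
  exact le_sup_right

/-! ### Acting as a matrix modulo `x` -/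

/-- `h` acts on `W` modulo `x` as the matrix `A`. -/
def Acts (h : G) (A : Matrix (Fin 6) (Fin 6) (ZMod 5)) : Prop :=
  ∀ u, ∃ n : ℕ, h * M.w u * h⁻¹ = M.w (A *ᵥ u) * M.x ^ n

variable {M}

theorem Acts.unique {h : G} {A B : Matrix (Fin 6) (Fin 6) (ZMod 5)} (hA : Acts M h A)
    (hB : Acts M h B) : A = B := by
  have key : ∀ u, A *ᵥ u = B *ᵥ u := by
    intro u
    obtain ⟨n, h1⟩ := hA u
    obtain ⟨m, h2⟩ := hB u
    rw [h1] at h2
    have h3 : M.f ⟨A *ᵥ u, n, 0, 0⟩ = M.f ⟨B *ᵥ u, m, 0, 0⟩ := by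
      rw [f_apply, f_apply]
      simp only [ZMod.val_zero, pow_zero, mul_one, x_pow_val]
      exact h2
    exact congrArg PG.v (M.f_injective h3)
  ext i j
  have h1 := congrFun (key (Pi.single j 1)) i
  rwa [mulVec_single_one, mulVec_single_one] at h1

theorem Acts.mul {h k : G} {A B : Matrix (Fin 6) (Fin 6) (ZMod 5)} (hx : h * M.x = M.x * h)
    (hA : Acts M h A) (hB : Acts M k B) : Acts M (h * k) (A * B) := by
  intro u
  obtain ⟨n, h1⟩ := hB u
  obtain ⟨m, h2⟩ := hA (B *ᵥ u)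
  refine ⟨m + n, ?_⟩
  have h3 : h * M.x ^ n = M.x ^ n * h := ((show Commute h M.x from hx).pow_right n).eq
  calc h * k * M.w u * (h * k)⁻¹ = h * (k * M.w u * k⁻¹) * h⁻¹ := by group
    _ = h * (M.w (B *ᵥ u) * M.x ^ n) * h⁻¹ := by rw [h1]
    _ = (h * M.w (B *ᵥ u) * h⁻¹) * (h * M.x ^ n * h⁻¹) := by group
    _ = _ := by rw [h2, h3, mul_inv_cancel_right, pow_add, mul_assoc, mulVec_mulVec]

variable (M)

theorem acts_f (p : PG) : Acts M (M.f p) (mat p.i p.j) := by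
  intro u
  refine ⟨(p * ⟨u, 0, 0, 0⟩ * p⁻¹).c.val, ?_⟩
  rw [← f_w, ← map_mul, ← map_inv, ← map_mul, f_apply]
  have hi : (p * ⟨u, 0, 0, 0⟩ * p⁻¹).i = 0 := by simp
  have hj : (p * ⟨u, 0, 0, 0⟩ * p⁻¹).j = 0 := by simp
  have hv : (p * ⟨u, 0, 0, 0⟩ * p⁻¹).v = act p.i p.j u := by
    simp only [PG.mul_v, PG.mul_i, PG.mul_j, PG.inv_v, act_neg, act_act, add_zero, add_neg_cancel,
      act_one]
    abel
  rw [hi, hj, hv]
  simp only [ZMod.val_zero, pow_zero, mul_one]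
  rfl

theorem acts_b' : Acts M M.b' bpM := fun u => ⟨0, by rw [pow_zero, mul_one]; exact M.b'_w u⟩

theorem bpM_mat : ∀ i j k l : ZMod 5, bpM * matP i j = matP k l * bpM → i = 0 ∧ j = 0 := by
  decide +kernel

/-- Elements of `S` conjugate under `b'` to elements of `S` are in `W`. -/
theorem mem_W_of_b' {s : G} (hs : s ∈ M.S) (hs' : M.b' * s * M.b'⁻¹ ∈ M.S) : s ∈ M.W := by
  obtain ⟨p, rfl⟩ := hs
  obtain ⟨q, hq⟩ := hs'
  have h1 : M.b' * M.f p = M.f q * M.b' := by rw [hq]; group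
  have h2 := (acts_b' M).mul M.b'x (acts_f M p)
  have h3 := (acts_f M q).mul (f_comm_x M q) (acts_b' M)
  rw [h1] at h2
  have h4 := h2.unique h3
  rw [mat_eq, mat_eq] at h4
  obtain ⟨h5, h6⟩ := bpM_mat _ _ _ _ h4
  exact ⟨p, ⟨h5, h6⟩, rfl⟩

omit [Finite G] in
theorem orderOf_conj' (g y : G) : orderOf (g * y * g⁻¹) = orderOf y :=
  MulEquiv.orderOf_eq (MulAut.conj g) y

omit [Finite G] in
theorem orderOf_x : orderOf M.x = 5 := by
  have : Fact (Nat.Prime 5) := ⟨Nat.prime_five⟩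
  exact orderOf_eq_prime M.x_five M.x_ne

/-- Subgroups of order 5. -/
theorem zpowers_eq {x c : G} (hx : orderOf x = 5) (hc : c ∈ Subgroup.zpowers x) (hc1 : c ≠ 1) :
    Subgroup.zpowers c = Subgroup.zpowers x := by
  apply Subgroup.eq_of_le_of_card_ge
  · rwa [Subgroup.zpowers_le]
  · rw [Nat.card_zpowers, Nat.card_zpowers, hx]
    have h1 : orderOf c ∣ 5 := by
      rw [← hx]; exact orderOf_dvd_of_mem_zpowers hc
    rcases (Nat.dvd_prime Nat.prime_five).1 h1 with h2 | h2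
    · exact absurd (orderOf_eq_one_iff.1 h2) hc1
    · exact h2.ge

theorem exists_SV : ∃ y : PG, y ∈ PG.SV ∧ y.i ≠ 0 :=
  ⟨⟨![0, -1, 0, -1, 2, 0], 0, 1, 0⟩, by
    refine ⟨rfl, ?_, rfl, ?_, ?_⟩ <;> decide, by decide⟩

/-- `g x g⁻¹ ∉ ⟨x⟩`. -/
theorem case_a (g : G) (hV : ∀ y ∈ PG.SV, ∃ p ∈ PG.SA, M.f p = g * M.f y * g⁻¹)
    (h : g * M.x * g⁻¹ ∈ Subgroup.zpowers M.x) : False := by
  have h1 : g * M.x * g⁻¹ ≠ 1 := by
    intro h2
    apply M.x_ne
    calc M.x = g⁻¹ * (g * M.x * g⁻¹) * g := by group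
      _ = 1 := by rw [h2]; group
  have h2 : M.x ∈ Subgroup.zpowers (g * M.x * g⁻¹) := by
    rw [zpowers_eq (orderOf_x M) h h1]; exact Subgroup.mem_zpowers _
  obtain ⟨m, hm⟩ := h2
  have hD : ∀ d, d * M.x = M.x * d → (g * d * g⁻¹) * M.x = M.x * (g * d * g⁻¹) := by
    intro d hd
    have h3 : Commute (g * d * g⁻¹) (g * M.x * g⁻¹) := by
      show g * d * g⁻¹ * (g * M.x * g⁻¹) = g * M.x * g⁻¹ * (g * d * g⁻¹)
      calc g * d * g⁻¹ * (g * M.x * g⁻¹) = g * (d * M.x) * g⁻¹ := by group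
        _ = g * (M.x * d) * g⁻¹ := by rw [hd]
        _ = _ := by group
    have h4 := h3.zpow_right m
    simp only at hm
    rw [hm] at h4
    exact h4
  set R : Subgroup G := M.W.map (MulAut.conj g⁻¹).toMonoidHom with hR
  have hRm : ∀ y ∈ M.W, g⁻¹ * y * g ∈ R := by
    intro y hy
    refine ⟨y, hy, ?_⟩
    show g⁻¹ * y * g⁻¹⁻¹ = _
    rw [inv_inv]
  have hRn : ∀ d, d * M.x = M.x * d → ∀ r ∈ R, d * r * d⁻¹ ∈ R := by
    rintro d hd _ ⟨y, hy, rfl⟩
    have h3 := hRm _ (W_conj M (hD d hd) hy)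
    have e : d * (MulAut.conj g⁻¹).toMonoidHom y * d⁻¹ =
        g⁻¹ * (g * d * g⁻¹ * y * (g * d * g⁻¹)⁻¹) * g := by
      show d * (g⁻¹ * y * g⁻¹⁻¹) * d⁻¹ = _
      group
    rw [e]; exact h3
  have hRp : IsPGroup 5 R := (M.S_isPGroup.to_le (M.map_le_S _)).map _
  have hRS : R ≤ M.S := by
    refine le_S_of_normal M hRp ?_
    rintro _ ⟨p, rfl⟩ r hr
    exact hRn _ (f_comm_x M p) r hr
  have hRW : R ≤ M.W := fun r hr => mem_W_of_b' M (hRS hr) (hRS (hRn _ M.b'x r hr))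
  obtain ⟨y, hy, hyi⟩ := exists_SV
  obtain ⟨p, hp, hpy⟩ := hV y hy
  have h5 : M.f y ∈ M.W := by
    apply hRW
    have h6 := hRm (M.f p) ⟨p, ⟨hp.1, hp.2.1⟩, rfl⟩
    rw [hpy] at h6
    have e : g⁻¹ * (g * M.f y * g⁻¹) * g = M.f y := by group
    rwa [e] at h6
  obtain ⟨q, hq, hqy⟩ := h5
  rw [← M.f_injective hqy] at hyi
  exact hyi hq.1

/-- 5-subgroups of `C(L)` have order at most `5 ^ 8`. -/
theorem card_le_of_comm_L {Q : Subgroup G} (hQ : IsPGroup 5 Q)
    (hQL : ∀ q ∈ Q, ∀ l ∈ M.L, q * l = l * q) : Nat.card Q ≤ 5 ^ 8 := by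
  obtain ⟨n, hn⟩ := IsPGroup.iff_card.1 hQ
  rw [hn]
  by_contra hlt
  have hn9 : 9 ≤ n := by
    by_contra h9
    exact hlt (Nat.pow_le_pow_right (by norm_num) (by omega))
  obtain ⟨P, hP⟩ := hQ.exists_le_sylow
  have hcard : Nat.card (P : Subgroup G) = 5 ^ 9 := by
    rw [Sylow.card_eq_multiplicity, M.factorization_card]
  have hQP : Q = (P : Subgroup G) := by
    apply Subgroup.eq_of_le_of_card_ge hP
    rw [hcard, hn]
    exact Nat.pow_le_pow_right (by norm_num) hn9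
  obtain ⟨k, hk⟩ := MulAction.exists_smul_eq G M.T P
  have hkS : ∀ s ∈ M.S, k * s * k⁻¹ ∈ Q := by
    intro s hs
    rw [hQP, ← hk, Sylow.coe_subgroup_smul]
    exact ⟨s, hs, rfl⟩
  -- `k⁻¹ l k` commutes with `S`
  have key : ∀ l ∈ M.L, k⁻¹ * l * k ∈ Subgroup.zpowers M.x := by
    intro l hl
    have h1 : ∀ s ∈ M.S, s * (k⁻¹ * l * k) = (k⁻¹ * l * k) * s := by
      intro s hs
      have h2 := hQL _ (hkS s hs) l hl
      calc s * (k⁻¹ * l * k) = k⁻¹ * ((k * s * k⁻¹) * l) * k := by group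
        _ = k⁻¹ * (l * (k * s * k⁻¹)) * k := by rw [h2]
        _ = _ := by group
    have h3 : IsPGroup 5 (Subgroup.zpowers (k⁻¹ * l * k)) := by
      have h4 : l ^ 5 = 1 ∨ True := Or.inr trivial
      obtain ⟨p, -, rfl⟩ := hl
      have h5 : IsPGroup 5 (Subgroup.zpowers (M.f p)) :=
        M.S_isPGroup.to_le (by rw [Subgroup.zpowers_le]; exact M.mem_S)
      have h6 : Subgroup.zpowers (k⁻¹ * M.f p * k) =
          (Subgroup.zpowers (M.f p)).map (MulAut.conj k⁻¹).toMonoidHom := by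
        rw [MonoidHom.map_zpowers]
        congr 1
        show _ = k⁻¹ * M.f p * k⁻¹⁻¹
        rw [inv_inv]
      rw [h6]; exact h5.map _
    have h4 : k⁻¹ * l * k ∈ M.S := by
      apply le_S_of_normal M h3 _ (Subgroup.mem_zpowers _)
      rintro s hs _ ⟨m, rfl⟩
      have h5 : Commute s (k⁻¹ * l * k) := h1 s hs
      have h6 := (h5.zpow_right m).eq
      simp only
      rw [h6, mul_inv_cancel_right]
      exact ⟨m, rfl⟩
    obtain ⟨q, hq⟩ := h4
    have h5 : q ∈ Subgroup.center PG := by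
      rw [Subgroup.mem_center_iff]
      intro s
      apply M.f_injective
      rw [map_mul, map_mul, hq]
      exact h1 _ M.mem_S
    obtain ⟨c1, c2, c3⟩ := mem_center.1 h5
    rw [← hq, f_apply, c1, c2, c3, w_zero]
    simp
  have h1 := key M.x ⟨⟨0, 1, 0, 0⟩, x_mem_SL, f_x M⟩
  have h2 := key (M.w (Pi.single 0 1)) ⟨⟨Pi.single 0 1, 0, 0, 0⟩, e0_mem_SL, f_w M _⟩
  have h3 : k⁻¹ * M.x * k ≠ 1 := by
    intro h4
    apply M.x_ne
    calc M.x = k * (k⁻¹ * M.x * k) * k⁻¹ := by group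
      _ = 1 := by rw [h4]; group
  rw [← zpowers_eq (orderOf_x M) h1 h3] at h2
  obtain ⟨m, hm⟩ := h2
  have h4 : M.w (Pi.single 0 1) = M.x ^ m := by
    have e : (k⁻¹ * M.x * k) ^ m = k⁻¹ * M.x ^ m * k := by
      have := (MulAut.conj k⁻¹).toMonoidHom.map_zpow M.x m
      simpa using this.symm
    simp only at hm
    rw [e] at hm
    calc M.w (Pi.single 0 1) = k * (k⁻¹ * M.w (Pi.single 0 1) * k) * k⁻¹ := by group
      _ = M.x ^ m := by rw [← hm]; group
  have h5 : M.f ⟨Pi.single 0 1, 0, 0, 0⟩ = M.f ((⟨0, 1, 0, 0⟩ : PG) ^ m) := by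
    rw [f_w, map_zpow, f_x, h4]
  have h6 := M.f_injective h5
  have h7 : ((⟨0, 1, 0, 0⟩ : PG) ^ m) ∈ Subgroup.center PG := zpow_mem x_mem_center m
  rw [← h6] at h7
  have h8 := congrFun (mem_center.1 h7).1 0
  simp at h8

/-- The image of a subgroup of `PG` under `f` has the same order. -/
theorem card_map (H : Subgroup PG) : Nat.card (H.map M.f) = Nat.card H :=
  Subgroup.card_map_of_injective M.f_injective

theorem case_b (g : G) (hL : ∀ y ∈ PG.SL, ∃ p ∈ PG.SL, M.f p = g * M.f y * g⁻¹)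
    (hV : ∀ y ∈ PG.SV, ∃ p ∈ PG.SA, M.f p = g * M.f y * g⁻¹)
    (h : g * M.x * g⁻¹ ∉ Subgroup.zpowers M.x) : False := by
  set X : Subgroup G := Subgroup.centralizer (M.L : Set G) with hX
  have memX : ∀ k, k ∈ X ↔ ∀ l ∈ M.L, l * k = k * l := fun k => Subgroup.mem_centralizer_iff
  have gL : ∀ l ∈ M.L, g * l * g⁻¹ ∈ M.L := by
    rintro _ ⟨y, hy, rfl⟩
    obtain ⟨p, hp, hpy⟩ := hL y hy
    exact ⟨p, hp, hpy⟩
  have gL' : ∀ l ∈ M.L, g⁻¹ * l * g ∈ M.L := by
    have h1 : M.L.map (MulAut.conj g).toMonoidHom = M.L := by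
      apply Subgroup.eq_of_le_of_card_ge
      · rintro _ ⟨l, hl, rfl⟩
        exact gL l hl
      · rw [Subgroup.card_map_of_injective (MulAut.conj g).injective]
    intro l hl
    rw [← h1] at hl
    obtain ⟨l', hl', rfl⟩ := hl
    have e : g⁻¹ * (MulAut.conj g).toMonoidHom l' * g = l' := by
      show g⁻¹ * (g * l' * g⁻¹) * g = l'
      group
    rw [e]; exact hl'
  have gX : ∀ k ∈ X, g * k * g⁻¹ ∈ X := by
    intro k hk
    rw [memX] at hk ⊢
    intro l hl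
    have h1 := hk _ (gL' l hl)
    calc l * (g * k * g⁻¹) = g * ((g⁻¹ * l * g) * k) * g⁻¹ := by group
      _ = g * (k * (g⁻¹ * l * g)) * g⁻¹ := by rw [h1]
      _ = _ := by group
  have gX' : ∀ k ∈ X, g⁻¹ * k * g ∈ X := by
    intro k hk
    rw [memX] at hk ⊢
    intro l hl
    have h1 := hk _ (gL l hl)
    calc l * (g⁻¹ * k * g) = g⁻¹ * ((g * l * g⁻¹) * k) * g := by group
      _ = g⁻¹ * (k * (g * l * g⁻¹)) * g := by rw [h1]
      _ = _ := by group
  have xL : M.x ∈ M.L := ⟨⟨0, 1, 0, 0⟩, x_mem_SL, f_x M⟩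
  have hXx : ∀ k ∈ X, k * M.x = M.x * k := fun k hk => ((memX k).1 hk _ xL).symm
  -- 5-subgroups of `X`
  have bound : ∀ Q : Subgroup G, IsPGroup 5 Q → Q ≤ X → Nat.card Q ≤ 5 ^ 8 := fun Q hQ hQX =>
    card_le_of_comm_L M hQ (fun q hq l hl => ((memX q).1 (hQX hq) l hl).symm)
  have fX : ∀ {y : PG}, M.f y ∈ X ↔ y ∈ PG.SC := by
    intro y
    constructor
    · intro hy
      apply mem_SC_of_comm
      apply M.f_injective
      rw [map_mul, map_mul]
      exact ((memX _).1 hy _ ⟨_, e0_mem_SL, rfl⟩).symm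
    · intro hy
      rw [memX]
      rintro _ ⟨l, hl, rfl⟩
      rw [← map_mul, ← map_mul, comm_SC_SL hy hl]
  -- `W1`
  set W1 : Subgroup G := SX.map M.f with hW1
  have W1X : W1 ≤ X := by
    rintro _ ⟨y, hy, rfl⟩
    exact fX.2 hy.2
  have W1n : ∀ k ∈ X, ∀ y ∈ W1, k * y * k⁻¹ ∈ W1 := by
    rintro k hk _ ⟨y, hy, rfl⟩
    obtain ⟨q, hq, hqy⟩ := W_conj M (hXx k hk) (show M.f y ∈ M.W from ⟨y, hy.1, rfl⟩)
    refine ⟨q, ⟨hq, fX.1 ?_⟩, hqy⟩
    rw [hqy]
    exact mul_mem (mul_mem hk (fX.2 hy.2)) (inv_mem hk)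
  have W1p : IsPGroup 5 W1 := M.S_isPGroup.to_le (M.map_le_S _)
  set W2 : Subgroup G := W1.map (MulAut.conj g).toMonoidHom with hW2
  have W2X : W2 ≤ X := by
    rintro _ ⟨y, hy, rfl⟩
    exact gX y (W1X hy)
  have W2n : ∀ k ∈ X, ∀ y ∈ W2, k * y * k⁻¹ ∈ W2 := by
    rintro k hk _ ⟨y, hy, rfl⟩
    refine ⟨g⁻¹ * k * g * y * (g⁻¹ * k * g)⁻¹, W1n _ (gX' k hk) y hy, ?_⟩
    show g * (g⁻¹ * k * g * y * (g⁻¹ * k * g)⁻¹) * g⁻¹ = k * (g * y * g⁻¹) * k⁻¹
    group
  have W2p : IsPGroup 5 W2 := W1p.map _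
  -- the intersection is abelian
  have cx : ∀ a ∈ W1, ∀ b ∈ W1, a * b * a⁻¹ * b⁻¹ ∈ Subgroup.zpowers M.x := by
    rintro _ ⟨a, ha, rfl⟩ _ ⟨b, hb, rfl⟩
    rw [← map_mul, ← map_inv, ← map_mul, ← map_inv, ← map_mul, f_apply]
    obtain ⟨c1, c2, c3⟩ := mem_center.1 (comm_SW ha.1 hb.1)
    rw [c1, c2, c3, w_zero]
    simp
  have hYab : ∀ a ∈ W1 ⊓ W2, ∀ b ∈ W1 ⊓ W2, a * b = b * a := by
    rintro a ⟨ha1, a', ha', rfl⟩ b ⟨hb1, b', hb', rfl⟩
    have h1 := cx _ ha1 _ hb1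
    by_contra hne
    set c : G := (MulAut.conj g).toMonoidHom a' * (MulAut.conj g).toMonoidHom b' *
      ((MulAut.conj g).toMonoidHom a')⁻¹ * ((MulAut.conj g).toMonoidHom b')⁻¹ with hc
    have hc1 : c ≠ 1 := by
      intro h2
      apply hne
      calc (MulAut.conj g).toMonoidHom a' * (MulAut.conj g).toMonoidHom b' =
          c * ((MulAut.conj g).toMonoidHom b' * (MulAut.conj g).toMonoidHom a') := by
            rw [hc]; group
        _ = _ := by rw [h2, one_mul]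
    have hc2 : c ∈ Subgroup.zpowers (g * M.x * g⁻¹) := by
      have h3 := cx a' ha' b' hb'
      obtain ⟨m, hm⟩ := h3
      have hm' : M.x ^ m = a' * b' * a'⁻¹ * b'⁻¹ := hm
      refine ⟨m, ?_⟩
      show (g * M.x * g⁻¹) ^ m = c
      have e : (g * M.x * g⁻¹) ^ m = g * M.x ^ m * g⁻¹ := by
        have := (MulAut.conj g).toMonoidHom.map_zpow M.x m
        simpa using this.symm
      rw [e, hm', hc]
      show g * (a' * b' * a'⁻¹ * b'⁻¹) * g⁻¹ =
        g * a' * g⁻¹ * (g * b' * g⁻¹) * (g * a' * g⁻¹)⁻¹ * (g * b' * g⁻¹)⁻¹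
      group
    have h3 := zpowers_eq (orderOf_x M) h1 hc1
    have h4 := zpowers_eq (by rw [orderOf_conj']; exact orderOf_x M) hc2 hc1
    apply h
    rw [← h3, h4]
    exact Subgroup.mem_zpowers _
  have hYcard : Nat.card (W1 ⊓ W2 : Subgroup G) ≤ 5 ^ 4 := by
    have h1 : (W1 ⊓ W2 : Subgroup G) ≤ M.f.range := by
      intro y hy
      obtain ⟨q, -, rfl⟩ := hy.1
      exact ⟨q, rfl⟩
    have h2 : ((W1 ⊓ W2).comap M.f).map M.f = W1 ⊓ W2 := Subgroup.map_comap_eq_self h1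
    rw [← h2, card_map]
    apply card_le_of_comm_PG
    intro a ha b hb
    apply M.f_injective
    rw [map_mul, map_mul]
    exact hYab _ ha _ hb
  -- `Q = W1 W2`
  have W2norm : W2 ≤ Subgroup.normalizer (W1 : Set G) :=
    H427.le_normalizer_of_conj fun k hk y hy => W1n k (W2X hk) y hy
  have hQp : IsPGroup 5 (W2 ⊔ W1 : Subgroup G) := W2p.to_sup_of_normal_right' W1p W2norm
  have hQX : W2 ⊔ W1 ≤ X := sup_le W2X W1X
  have hQcard : 5 ^ 8 ≤ Nat.card (W2 ⊔ W1 : Subgroup G) := by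
    have h1 := H427.card_sup_mul_card_inf W2norm
    have h2 : Nat.card W2 = Nat.card W1 := Subgroup.card_map_of_injective (MulAut.conj g).injective
    have h3 : 5 ^ 6 ≤ Nat.card W1 := by rw [hW1, card_map]; exact card_SX
    rw [h2, inf_comm] at h1
    by_contra hlt
    push Not at hlt
    have h4 : Nat.card (W2 ⊔ W1 : Subgroup G) * Nat.card (W1 ⊓ W2 : Subgroup G) < 5 ^ 8 * 5 ^ 4 := by
      have h5 : 0 < Nat.card (W1 ⊓ W2 : Subgroup G) := Nat.card_pos
      calc _ < 5 ^ 8 * Nat.card (W1 ⊓ W2 : Subgroup G) := Nat.mul_lt_mul_of_pos_right hlt h5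
        _ ≤ _ := Nat.mul_le_mul_left _ hYcard
    have h5 : 5 ^ 6 * 5 ^ 6 ≤ Nat.card W1 * Nat.card W1 := Nat.mul_le_mul h3 h3
    rw [h1] at h4
    have h6 : (5 : ℕ) ^ 6 * 5 ^ 6 < 5 ^ 8 * 5 ^ 4 := lt_of_le_of_lt h5 h4
    norm_num at h6
  -- `C = Q`
  set C : Subgroup G := PG.SC.map M.f with hC
  have hCX : C ≤ X := by
    rintro _ ⟨y, hy, rfl⟩
    exact fX.2 hy
  have hCp : IsPGroup 5 C := M.S_isPGroup.to_le (M.map_le_S _)
  have hCcard : Nat.card C = 5 ^ 8 := by rw [hC, card_map, card_SC]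
  have Qn : ∀ k ∈ X, ∀ y ∈ W2 ⊔ W1, k * y * k⁻¹ ∈ W2 ⊔ W1 := by
    intro k hk y hy
    have h1 : (W2 ⊔ W1).map (MulAut.conj k).toMonoidHom ≤ W2 ⊔ W1 := by
      rw [Subgroup.map_sup]
      refine sup_le_sup ?_ ?_
      · rintro _ ⟨z, hz, rfl⟩
        exact W2n k hk z hz
      · rintro _ ⟨z, hz, rfl⟩
        exact W1n k hk z hz
    exact h1 ⟨y, hy, rfl⟩
  have eqQ : ∀ Q : Subgroup G, (∀ k ∈ X, ∀ y ∈ Q, k * y * k⁻¹ ∈ Q) → IsPGroup 5 Q → Q ≤ X →
      5 ^ 8 ≤ Nat.card Q → ∀ R : Subgroup G, IsPGroup 5 R → R ≤ X → R ≤ Q := by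
    intro Q hQn hQp hQX hQc R hRp hRX
    have h1 : IsPGroup 5 (R ⊔ Q : Subgroup G) :=
      hRp.to_sup_of_normal_right' hQp (H427.le_normalizer_of_conj fun k hk y hy => hQn k (hRX hk) y hy)
    have h2 := bound _ h1 (sup_le hRX hQX)
    have h3 : Q = R ⊔ Q := Subgroup.eq_of_le_of_card_ge le_sup_right (h2.trans hQc)
    rw [h3]; exact le_sup_left
  have hCQ : C = W2 ⊔ W1 := by
    apply Subgroup.eq_of_le_of_card_ge (eqQ _ Qn hQp hQX hQcard C hCp hCX)
    rw [hCcard]; exact bound _ hQp hQX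
  have Cn : ∀ k ∈ X, ∀ y ∈ C, k * y * k⁻¹ ∈ C := by rw [hCQ]; exact Qn
  have Cg : ∀ k : G, (∀ y ∈ X, k * y * k⁻¹ ∈ X) → ∀ y ∈ C, k * y * k⁻¹ ∈ C := by
    intro k hk y hy
    refine eqQ C Cn hCp hCX hCcard.ge (C.map (MulAut.conj k).toMonoidHom) (hCp.map _) ?_ ⟨y, hy, rfl⟩
    rintro _ ⟨z, hz, rfl⟩
    exact hk z (hCX hz)
  have C1 := Cg g gX
  have C2 := Cg g⁻¹ (fun y hy => by rw [inv_inv]; exact gX' y hy)
  -- the end
  obtain ⟨y, hy, hyi⟩ := exists_SV
  obtain ⟨p, hp, hpy⟩ := hV y hy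
  have hfy : M.f y = g⁻¹ * M.f p * g := by rw [hpy]; group
  have hyC : y ∈ PG.SC := by
    have h1 := C2 (M.f p) ⟨p, hp.2.2.2.2, rfl⟩
    rw [inv_inv, ← hfy] at h1
    obtain ⟨q, hq, hqy⟩ := h1
    rw [← M.f_injective hqy]; exact hq
  apply hyi
  refine (mem_SA_of_comm hyC ?_).1
  intro c hc
  obtain ⟨c', hc', hcc⟩ := C1 (M.f c) ⟨c, hc, rfl⟩
  have h1 : g⁻¹ * M.f (p * c' * p⁻¹ * c'⁻¹) * g ∈ M.L := gL' _ ⟨_, comm_SA hp hc', rfl⟩
  have h2 : g⁻¹ * M.f (p * c' * p⁻¹ * c'⁻¹) * g = M.f (y * c * y⁻¹ * c⁻¹) := by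
    simp only [map_mul, map_inv]
    rw [hcc, hfy]
    group
  rw [h2] at h1
  obtain ⟨l, hl, hly⟩ := h1
  rw [← M.f_injective hly]; exact hl

/-- **S5230-P3** -/
theorem not_conj_SA (g : G) (hL : ∀ y ∈ PG.SL, ∃ p ∈ PG.SL, M.f p = g * M.f y * g⁻¹)
    (hV : ∀ y ∈ PG.SV, ∃ p ∈ PG.SA, M.f p = g * M.f y * g⁻¹) : False := by
  by_cases h : g * M.x * g⁻¹ ∈ Subgroup.zpowers M.x
  · exact case_a M g hV h
  · exact case_b M g hL hV h

end Cfsg.Agent.H738.M5
end

-- part: H768/M5/Fn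
section
prune_inst 0x10104500742200000018000020000020300000000040000100400c00094980400000000032100000000000c04008002002880050420000000a00000000040000000150069218ac00100000000000000000000000000000000000000000000000000000000
set_option linter.all false
open scoped Cfsg.Agent.FastGrp

/-!
# Embeddings of `SN` into `PG` (helper768, task P2 of S5230)
-/

set_option autoImplicit false

namespace Cfsg.Agent.H768.M5

open Cfsg.Agent.H777.M5 Cfsg.Agent.H411.M5

/-- the facts about `PG` used here (task P1) -/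
structure PFacts : Prop where
  card_SN : Nat.card PG.SN = 5 ^ 6
  card_SL : Nat.card PG.SL = 5 ^ 2
  card_SA : Nat.card PG.SA = 5 ^ 4
  card_SV : Nat.card PG.SV = 5 ^ 4
  comm_SA : ∀ x ∈ PG.SA, ∀ y ∈ PG.SA, x * y = y * x
  comm_SV : ∀ x ∈ PG.SV, ∀ y ∈ PG.SV, x * y = y * x
  comm_SN : ∀ x ∈ PG.SN, ∀ y ∈ PG.SN, x * y * x⁻¹ * y⁻¹ ∈ PG.SL
  comm_SL : ∀ x ∈ PG.SL, ∀ y ∈ PG.SN, x * y = y * x
  heis : ∀ y ∈ PG.SN, y ∉ PG.SL → ∀ g ∈ PG.SN, ∀ h ∈ PG.SN, g * y = y * g → h * y = y * h → g * h = h * g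

theorem SL_le_SN : PG.SL ≤ PG.SN := by
  rintro y ⟨hi, hj, h1, h2, h3, h4, h5⟩
  exact ⟨h5, by rw [h4, hi, mul_zero], by rw [h2, hj]⟩

theorem SV_le_SN : PG.SV ≤ PG.SN := by
  rintro y ⟨h1, h2, h3, -, -⟩
  exact ⟨h1, h2, h3⟩

/-- elements of `W` commuting with an element outside `W` -/
theorem card_fix {N : Subgroup PG} {y : PG} (hy : ¬ (y.i = 0 ∧ y.j = 0)) (hN : ∀ g ∈ N, g.i = 0 ∧ g.j = 0 ∧ g * y = y * g) :
    Nat.card N ≤ 125 := by
  rcases eq_or_ne y.i 0 with hi | hi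
  · have hj : y.j ≠ 0 := fun hj => hy ⟨hi, hj⟩
    let φ : N → ZMod 5 × ZMod 5 × ZMod 5 := fun g => (g.1.v 0, g.1.v 3, g.1.c)
    have hφ : Function.Injective φ := by
      intro g h hgh
      obtain ⟨gi, gj, gc⟩ := hN _ g.2
      obtain ⟨hi', hj', hc⟩ := hN _ h.2
      obtain ⟨g5, g2, g4, g1⟩ := fix_eq hy (comm_fix gi gj gc)
      obtain ⟨h5', h2, h4, h1⟩ := fix_eq hy (comm_fix hi' hj' hc)
      rw [hi, zero_mul] at g1 h1
      have g1' := (mul_eq_zero.1 g1).resolve_left hj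
      have h1' := (mul_eq_zero.1 h1).resolve_left hj
      have k0 : g.1.v 0 = h.1.v 0 := congrArg Prod.fst hgh
      have k3 : g.1.v 3 = h.1.v 3 := congrArg (fun p => p.2.1) hgh
      have kc : g.1.c = h.1.c := congrArg (fun p => p.2.2) hgh
      apply Subtype.ext
      refine PG.ext ?_ kc (gi.trans hi'.symm) (gj.trans hj'.symm)
      funext k
      fin_cases k
      · exact k0
      · exact g1'.trans h1'.symm
      · exact g2.trans h2.symm
      · exact k3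
      · exact g4.trans h4.symm
      · exact g5.trans h5'.symm
    have := Nat.card_le_card_of_injective φ hφ
    simpa only [Nat.card_prod, _root_.ge_iff_le, _root_.Nat.card_eq_fintype_card, _root_.Fintype.card_prod, _root_.ZMod.card, _root_.Nat.reduceMul] using this
  · let φ : N → ZMod 5 × ZMod 5 × ZMod 5 := fun g => (g.1.v 0, g.1.v 1, g.1.c)
    have hφ : Function.Injective φ := by
      intro g h hgh
      obtain ⟨gi, gj, gc⟩ := hN _ g.2
      obtain ⟨hi', hj', hc⟩ := hN _ h.2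
      obtain ⟨g5, g2, g4, g1⟩ := fix_eq hy (comm_fix gi gj gc)
      obtain ⟨h5', h2, h4, h1⟩ := fix_eq hy (comm_fix hi' hj' hc)
      have k0 : g.1.v 0 = h.1.v 0 := congrArg Prod.fst hgh
      have k1 : g.1.v 1 = h.1.v 1 := congrArg (fun p => p.2.1) hgh
      have kc : g.1.c = h.1.c := congrArg (fun p => p.2.2) hgh
      have k3 : g.1.v 3 = h.1.v 3 := mul_left_cancel₀ hi (by rw [← g1, ← h1, k1])
      apply Subtype.ext
      refine PG.ext ?_ kc (gi.trans hi'.symm) (gj.trans hj'.symm)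
      funext k
      fin_cases k
      · exact k0
      · exact k1
      · exact g2.trans h2.symm
      · exact k3
      · exact g4.trans h4.symm
      · exact g5.trans h5'.symm
    have := Nat.card_le_card_of_injective φ hφ
    simpa only [Nat.card_prod, _root_.ge_iff_le, _root_.Nat.card_eq_fintype_card, _root_.Fintype.card_prod, _root_.ZMod.card, _root_.Nat.reduceMul] using this

/-- an element of `W` commuting modulo `SL` with `y` -/
theorem fix_mod {g y : PG} (hg : g ∈ PG.SW) (hs : g * y * g⁻¹ * y⁻¹ ∈ PG.SL) {k : Fin 6} (hk : k ≠ 0) :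
    act y.i y.j g.v k = g.v k := by
  have e : g * y * g⁻¹ * y⁻¹ * (y * g) = g * y := by group
  obtain ⟨si, sj, s1, s2, s3, s4, s5⟩ := hs
  obtain ⟨gi, gj⟩ := hg
  have h1 := congrFun (congrArg PG.v e) k
  rw [PG.mul_v _ (y * g), si, sj, act_one, PG.mul_v y g, PG.mul_v g y, gi, gj, act_one] at h1
  simp only [Pi.add_apply] at h1
  have h0 : (g * y * g⁻¹ * y⁻¹).v k = 0 := by
    fin_cases k
    · exact absurd rfl hk
    · exact s1
    · exact s2
    · exact s3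
    · exact s4
    · exact s5
  rw [h0] at h1
  linear_combination h1

theorem mem_SA_of {g y₁ y₂ : PG} (hg : g ∈ PG.SW) (i1 : y₁.i = 1) (j1 : y₁.j = 0) (i2 : y₂.i = 0) (j2 : y₂.j = 1)
    (h1 : g * y₁ * g⁻¹ * y₁⁻¹ ∈ PG.SL) (h2 : g * y₂ * g⁻¹ * y₂⁻¹ ∈ PG.SL) : g ∈ PG.SA := by
  have a1 := fix_mod hg h1 (k := 1) (by decide)
  have a2 := fix_mod hg h1 (k := 2) (by decide)
  have b1 := fix_mod hg h2 (k := 1) (by decide)
  rw [act1, i1, j1] at a1
  rw [act2, i1] at a2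
  rw [act1, i2, j2] at b1
  have v5 : g.v 5 = 0 := by linear_combination -a2
  rw [v5] at a1 b1
  exact ⟨hg.1, hg.2, by linear_combination b1, by linear_combination -a1, v5⟩

theorem card_M : Nat.card (Multiplicative (ZMod 5 × ZMod 5)) = 5 ^ 2 := by
  rw [Nat.card_congr Multiplicative.toAdd, Nat.card_prod, Nat.card_zmod]
  norm_num

/-- a homomorphism to `C5 × C5` with small kernel is onto -/
theorem surj_of_card {K : Type*} [Group K] [Finite K] (f : K →* Multiplicative (ZMod 5 × ZMod 5)) {n : ℕ}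
    (hK : Nat.card K = 5 ^ (n + 2)) (hk : Nat.card f.ker ≤ 5 ^ n) : Function.Surjective f := by
  have h1 := f.ker.card_mul_index
  rw [Subgroup.index_ker, hK] at h1
  have h2 : 5 ^ 2 ≤ Nat.card f.range := by
    by_contra hlt
    push Not at hlt
    have h3 : Nat.card f.ker * Nat.card f.range < 5 ^ n * 5 ^ 2 :=
      Nat.mul_lt_mul_of_le_of_lt hk hlt (by positivity)
    rw [h1, pow_add] at h3
    exact lt_irrefl _ h3
  rw [← MonoidHom.range_eq_top]
  exact Subgroup.eq_top_of_le_card _ (by rw [card_M]; exact h2)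

theorem exists_pair {K : Type*} [Group K] {f : K →* Multiplicative (ZMod 5 × ZMod 5)} (hf : Function.Surjective f)
    {g : K → PG} (hg : ∀ k, f k = Multiplicative.ofAdd ((g k).i, (g k).j)) :
    ∃ y₁ y₂ : K, (g y₁).i = 1 ∧ (g y₁).j = 0 ∧ (g y₂).i = 0 ∧ (g y₂).j = 1 := by
  obtain ⟨y1, hy1⟩ := hf (Multiplicative.ofAdd (1, 0))
  obtain ⟨y2, hy2⟩ := hf (Multiplicative.ofAdd (0, 1))
  rw [hg] at hy1 hy2
  have hy1' : (((g y1).i, (g y1).j) : ZMod 5 × ZMod 5) = (1, 0) := hy1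
  have hy2' : (((g y2).i, (g y2).j) : ZMod 5 × ZMod 5) = (0, 1) := hy2
  exact ⟨y1, y2, congrArg Prod.fst hy1', congrArg Prod.snd hy1', congrArg Prod.fst hy2', congrArg Prod.snd hy2'⟩

section

variable (F : PFacts) {ψ : PG.SN →* PG} (hψ : Function.Injective ψ)

include F in
theorem heis' {y : PG.SN} (hy : (y : PG) ∉ PG.SL) {g h : PG.SN} (hg : g * y = y * g) (hh : h * y = y * h) :
    g * h = h * g :=
  Subtype.ext (F.heis y y.2 hy g g.2 h h.2 (congrArg Subtype.val hg) (congrArg Subtype.val hh))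

include F in
theorem card_SL' : Nat.card (PG.SL.subgroupOf PG.SN) = 5 ^ 2 := by
  rw [← F.card_SL]
  exact Nat.card_congr (Subgroup.subgroupOfEquivOfLe SL_le_SN).toEquiv

include F in
theorem card_SV' : Nat.card (PG.SV.subgroupOf PG.SN) = 5 ^ 4 := by
  rw [← F.card_SV]
  exact Nat.card_congr (Subgroup.subgroupOfEquivOfLe SV_le_SN).toEquiv

/-- the preimage of `W` -/
def KW (ψ : PG.SN →* PG) : Subgroup PG.SN := (ijHom.comp ψ).ker

theorem mem_KW {y : PG.SN} : y ∈ KW ψ ↔ (ψ y).i = 0 ∧ (ψ y).j = 0 := ijHom_eq_one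

include F in
theorem card_KW_ge : 5 ^ 4 ≤ Nat.card (KW ψ) := by
  have h1 := (ijHom.comp ψ).ker.card_mul_index
  rw [Subgroup.index_ker, F.card_SN] at h1
  have h2 : Nat.card (ijHom.comp ψ).range ≤ 5 ^ 2 := by
    rw [← card_M]
    exact Subgroup.card_le_card_group _
  by_contra hlt
  push Not at hlt
  have h3 : Nat.card (ijHom.comp ψ).ker * Nat.card (ijHom.comp ψ).range < 5 ^ 4 * 5 ^ 2 :=
    Nat.mul_lt_mul_of_lt_of_le hlt h2 (by norm_num)
  rw [h1] at h3
  norm_num at h3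

include hψ in
/-- commutative subgroups of `SN` -/
theorem card_le_of_comm {A : Subgroup PG.SN} (hA : ∀ x ∈ A, ∀ y ∈ A, x * y = y * x) : Nat.card A ≤ 5 ^ 4 := by
  rw [Nat.card_congr (A.equivMapOfInjective ψ hψ).toEquiv]
  apply card_le_of_comm_PG
  rintro _ ⟨x, hx, rfl⟩ _ ⟨y, hy, rfl⟩
  rw [← map_mul, hA x hx y hy, map_mul]

include F hψ in
theorem KW_comm (hc : 5 ^ 4 < Nat.card (KW ψ)) : ∀ x ∈ KW ψ, ∀ y ∈ KW ψ, x * y = y * x := by
  intro w hw w' hw'
  -- the commutators with `w` and `w'`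
  let χ : KW ψ →* Multiplicative (ZMod 5 × ZMod 5) :=
    { toFun := fun k => Multiplicative.ofAdd (om (ψ w).v (ψ k).v, om (ψ w').v (ψ k).v)
      map_one' := by
        rw [Subgroup.coe_one, map_one, PG.one_v, om_zero_right, om_zero_right]
        rfl
      map_mul' := by
        intro k l
        rw [← ofAdd_add, Prod.mk_add_mk, Subgroup.coe_mul, map_mul, PG.mul_v, (mem_KW.1 k.2).1, (mem_KW.1 k.2).2, act_one,
          om_add_right, om_add_right] }
  have h1 := χ.ker.card_mul_index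
  rw [Subgroup.index_ker] at h1
  have h2 : Nat.card χ.range ≤ 5 ^ 2 := by
    rw [← card_M]
    exact Subgroup.card_le_card_group _
  have h3 : 5 ^ 2 < Nat.card χ.ker := by
    by_contra hlt
    push Not at hlt
    have h4 : Nat.card χ.ker * Nat.card χ.range ≤ 5 ^ 2 * 5 ^ 2 := Nat.mul_le_mul hlt h2
    rw [h1] at h4
    omega
  -- an element outside `SL`
  obtain ⟨τ, hτ, hτL⟩ : ∃ τ ∈ χ.ker.map (KW ψ).subtype, τ ∉ PG.SL.subgroupOf PG.SN := by
    by_contra hcon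
    push Not at hcon
    have h5 := Subgroup.card_le_of_le (show χ.ker.map (KW ψ).subtype ≤ PG.SL.subgroupOf PG.SN from hcon)
    rw [card_SL' F, Nat.card_congr (χ.ker.equivMapOfInjective _ (Subgroup.subtype_injective _)).symm.toEquiv] at h5
    omega
  obtain ⟨τ, hτ, rfl⟩ := hτ
  have h6 : ((om (ψ w).v (ψ τ).v, om (ψ w').v (ψ τ).v) : ZMod 5 × ZMod 5) = (0, 0) := hτ
  obtain ⟨ti, tj⟩ := mem_KW.1 τ.2
  have key : ∀ u : PG.SN, u ∈ KW ψ → om (ψ u).v (ψ τ).v = 0 → u * τ = τ * u := by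
    intro u hu huo
    obtain ⟨ui, uj⟩ := mem_KW.1 hu
    apply hψ
    rw [map_mul, map_mul]
    apply PG.ext
    · rw [PG.mul_v, PG.mul_v, ui, uj, ti, tj, act_one, act_one, add_comm]
    · rw [PG.mul_c, PG.mul_c, ui, uj, ti, tj, act_one, act_one, om_swap (ψ u).v (ψ τ).v, huo]
      ring
    · rw [PG.mul_i, PG.mul_i, add_comm]
    · rw [PG.mul_j, PG.mul_j, add_comm]
  exact heis' F hτL (key w hw (congrArg Prod.fst h6)) (key w' hw' (congrArg Prod.snd h6))

include F hψ in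
theorem card_KW : Nat.card (KW ψ) = 5 ^ 4 := by
  apply le_antisymm _ (card_KW_ge F)
  by_contra hlt
  push Not at hlt
  exact absurd (card_le_of_comm hψ (KW_comm F hψ hlt)) (not_le.2 hlt)

include F hψ in
theorem surj : Function.Surjective (ijHom.comp ψ) :=
  surj_of_card _ (n := 4) F.card_SN (card_KW F hψ).le

include F hψ in
theorem SL_le_KW {y : PG.SN} (hy : (y : PG) ∈ PG.SL) : y ∈ KW ψ := by
  rw [mem_KW]
  by_contra hcon
  have h1 : Nat.card ((KW ψ).map ψ) ≤ 125 := by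
    apply card_fix hcon
    rintro _ ⟨k, hk, rfl⟩
    obtain ⟨ki, kj⟩ := mem_KW.1 hk
    refine ⟨ki, kj, ?_⟩
    rw [← map_mul, ← map_mul]
    (with_reducible congr 1)
    exact (Subtype.ext ((by exact F.comm_SL y hy k k.2))).symm
  rw [Nat.card_congr ((KW ψ).equivMapOfInjective ψ hψ).symm.toEquiv, card_KW F hψ] at h1
  norm_num at h1

include F hψ in
theorem map_SL {y : PG.SN} (hy : (y : PG) ∈ PG.SL) : ψ y ∈ PG.SL := by
  obtain ⟨y₁, y₂, i1, j1, i2, j2⟩ := exists_pair (surj F hψ) (g := ψ) (fun _ => rfl)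
  obtain ⟨hi, hj⟩ := mem_KW.1 (SL_le_KW F hψ hy)
  have hc : ∀ u, ψ y * ψ u = ψ u * ψ y := by
    intro u
    rw [← map_mul, ← map_mul]
    (with_reducible congr 1)
    exact Subtype.ext (F.comm_SL y hy u u.2)
  have f1 := comm_fix hi hj (hc y₁)
  have f2 := comm_fix hi hj (hc y₂)
  rw [i1, j1] at f1
  rw [i2, j2] at f2
  obtain ⟨g5, g2, g4, g1⟩ := fix_eq (by decide) f1
  obtain ⟨-, -, -, g3⟩ := fix_eq (by decide) f2
  rw [zero_mul, one_mul] at g1
  rw [zero_mul, one_mul] at g3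
  exact ⟨hi, hj, g3, g2, g1.symm, g4, g5⟩

include F hψ in
theorem SL_iff (y : PG.SN) : (y : PG) ∈ PG.SL ↔ ψ y ∈ PG.SL := by
  refine ⟨map_SL F hψ, fun h => ?_⟩
  have h1 : (PG.SL.subgroupOf PG.SN).map ψ = PG.SL := by
    apply Subgroup.eq_of_le_of_card_ge
    · rintro _ ⟨k, hk, rfl⟩
      exact map_SL F hψ hk
    · rw [Nat.card_congr ((PG.SL.subgroupOf PG.SN).equivMapOfInjective ψ hψ).symm.toEquiv, card_SL' F, F.card_SL]
  rw [← h1] at h
  obtain ⟨k, hk, hky⟩ := h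
  rw [← hψ hky]
  exact hk

include F hψ in
theorem KW_map : (KW ψ).map ψ = PG.SA := by
  obtain ⟨y₁, y₂, i1, j1, i2, j2⟩ := exists_pair (surj F hψ) (g := ψ) (fun _ => rfl)
  apply Subgroup.eq_of_le_of_card_ge
  · rintro _ ⟨k, hk, rfl⟩
    have hc : ∀ u : PG.SN, ψ k * ψ u * (ψ k)⁻¹ * (ψ u)⁻¹ ∈ PG.SL := by
      intro u
      rw [← map_inv, ← map_inv, ← map_mul, ← map_mul, ← map_mul]
      exact map_SL F hψ (F.comm_SN k k.2 u u.2)
    exact mem_SA_of (mem_KW.1 hk) i1 j1 i2 j2 (hc y₁) (hc y₂)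
  · rw [Nat.card_congr ((KW ψ).equivMapOfInjective ψ hψ).symm.toEquiv, card_KW F hψ, F.card_SA]

include F hψ in
theorem mem_KW_iff {y : PG.SN} : y ∈ KW ψ ↔ ψ y ∈ PG.SA := by
  rw [← KW_map F hψ]
  constructor
  · exact Subgroup.mem_map_of_mem ψ
  · rintro ⟨k, hk, hky⟩
    rw [← hψ hky]
    exact hk

include F hψ in
/-- `V` and `A` meet in `L` -/
theorem inter_le (hne : PG.SV.subgroupOf PG.SN ≠ KW ψ) {y : PG.SN} (hy : (y : PG) ∈ PG.SV) (hy' : y ∈ KW ψ) :
    (y : PG) ∈ PG.SL := by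
  by_contra hcon
  apply hne
  let C : Subgroup PG.SN := Subgroup.centralizer ({y} : Set PG.SN)
  have hC : ∀ g ∈ C, g * y = y * g := fun g hg => (Subgroup.mem_centralizer_singleton_iff.1 hg :)
  have hcard : Nat.card C ≤ 5 ^ 4 := card_le_of_comm hψ fun g hg h hh => heis' F hcon (hC g hg) (hC h hh)
  have h1 : PG.SV.subgroupOf PG.SN = C := by
    apply Subgroup.eq_of_le_of_card_ge
    · intro g hg
      exact Subgroup.mem_centralizer_singleton_iff.2 (Subtype.ext (F.comm_SV g hg y hy))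
    · rw [card_SV' F]; exact hcard
  have h2 : KW ψ = C := by
    apply Subgroup.eq_of_le_of_card_ge
    · intro g hg
      refine Subgroup.mem_centralizer_singleton_iff.2 (hψ ?_)
      rw [map_mul, map_mul]
      exact F.comm_SA _ ((mem_KW_iff F hψ).1 hg) _ ((mem_KW_iff F hψ).1 hy')
    · rw [card_KW F hψ]; exact hcard
  rw [h1, h2]

include F hψ in
theorem card_normalizer (hne : PG.SV.subgroupOf PG.SN ≠ KW ψ) :
    Nat.card (Subgroup.normalizer (((PG.SV.subgroupOf PG.SN).map ψ : Subgroup PG) : Set PG)) ≤ 5 ^ 6 := by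
  -- `ψ(V)` maps onto `PG / W`
  let f : PG.SV.subgroupOf PG.SN →* Multiplicative (ZMod 5 × ZMod 5) := (ijHom.comp ψ).comp (PG.SV.subgroupOf PG.SN).subtype
  have hf : Function.Surjective f := by
    refine surj_of_card f (n := 2) (card_SV' F) ?_
    rw [← card_SL' F, Nat.card_congr (f.ker.equivMapOfInjective _ (Subgroup.subtype_injective _)).toEquiv]
    apply Subgroup.card_le_of_le
    rintro _ ⟨k, hk, rfl⟩
    exact inter_le F hψ hne k.2 hk
  obtain ⟨y₁, y₂, i1, j1, i2, j2⟩ := exists_pair hf (g := fun k => ψ k) (fun _ => rfl)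
  generalize hN : Subgroup.normalizer (((PG.SV.subgroupOf PG.SN).map ψ : Subgroup PG) : Set PG) = N
  let q : N →* Multiplicative (ZMod 5 × ZMod 5) := ijHom.comp N.subtype
  have h1 := q.ker.card_mul_index
  rw [Subgroup.index_ker] at h1
  have h2 : Nat.card q.range ≤ 5 ^ 2 := by
    rw [← card_M]
    exact Subgroup.card_le_card_group _
  have h3 : Nat.card q.ker ≤ 5 ^ 4 := by
    rw [← F.card_SA, Nat.card_congr (q.ker.equivMapOfInjective _ (Subgroup.subtype_injective _)).toEquiv]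
    apply Subgroup.card_le_of_le
    rintro _ ⟨g, hg, rfl⟩
    have hgW : (g : PG) ∈ PG.SW := ijHom_eq_one.1 hg
    have key : ∀ k : PG.SV.subgroupOf PG.SN, (g : PG) * ψ k * (g : PG)⁻¹ * (ψ k)⁻¹ ∈ PG.SL := by
      intro k
      have hgN : (g : PG) ∈ Subgroup.normalizer (((PG.SV.subgroupOf PG.SN).map ψ : Subgroup PG) : Set PG) := by
        rw [hN]; exact g.2
      have h4 : (g : PG) * ψ k * (g : PG)⁻¹ ∈ (PG.SV.subgroupOf PG.SN).map ψ :=
        (Subgroup.mem_normalizer_iff.1 hgN _).1 (Subgroup.mem_map_of_mem ψ k.2)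
      have h5 : (g : PG) * ψ k * (g : PG)⁻¹ * (ψ k)⁻¹ ∈ (PG.SV.subgroupOf PG.SN).map ψ :=
        Subgroup.mul_mem _ h4 (Subgroup.inv_mem _ (Subgroup.mem_map_of_mem ψ k.2))
      obtain ⟨l, hl, hle⟩ := h5
      have h6 : l ∈ KW ψ := by
        rw [mem_KW, hle]
        constructor
        · simp only [PG.mul_i, PG.inv_i]; ring
        · simp only [PG.mul_j, PG.inv_j]; ring
      rw [← hle]
      exact map_SL F hψ (inter_le F hψ hne hl h6)
    exact (mem_SA_of hgW i1 j1 i2 j2 (key y₁) (key y₂) :)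
  calc Nat.card N = Nat.card q.ker * Nat.card q.range := h1.symm
    _ ≤ 5 ^ 4 * 5 ^ 2 := Nat.mul_le_mul h3 h2
    _ = 5 ^ 6 := by norm_num

include F hψ in
theorem fn_pg_of : (∀ y : PG.SN, (y : PG) ∈ PG.SL ↔ ψ y ∈ PG.SL) ∧
    ((∀ y : PG.SN, (y : PG) ∈ PG.SV ↔ ψ y ∈ PG.SA) ∨
     Nat.card (Subgroup.normalizer (((PG.SV.subgroupOf PG.SN).map ψ : Subgroup PG) : Set PG)) ≤ 5 ^ 6) := by
  refine ⟨SL_iff F hψ, ?_⟩
  by_cases hne : PG.SV.subgroupOf PG.SN = KW ψ
  · left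
    intro y
    rw [← mem_KW_iff F hψ, ← hne]
    rfl
  · exact Or.inr (card_normalizer F hψ hne)

end

end Cfsg.Agent.H768.M5
end

-- part: H771/M5/ExoGen
section
set_option linter.all false
open scoped Cfsg.Agent.FastGrp

/-!
# An exotic subsystem of the fusion system of a finite group (helper771)

`exotic_of_sub` : let `E` be a saturated proper subsystem of the fusion system of `G₀` on its Sylow `p`-subgroup `S₀`,
without proper nontrivial strongly closed subgroups, `S₀` not normal in `E`, the center of `S₀` of order `p`. If `G₀` is the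
only simple group with a Sylow `p`-subgroup isomorphic to `S₀`, then (over every group `P` isomorphic to `S₀`) `E` is exotic
and has trivial core.
-/

set_option autoImplicit false
set_option linter.unusedSimpArgs false
set_option linter.unusedVariables false

namespace Cfsg.Agent.H771.M5

open Cfsg Cfsg.FusionSystem Cfsg.Agent.H802 Cfsg.Agent.H759 Cfsg.Agent.H777.Real

universe u v

section

variable {p : ℕ} [Fact p.Prime] {G₀ : Type v} [Group G₀] [Finite G₀] {S₀ : Subgroup G₀}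

/-- **Non-realizability** of a proper subsystem. -/
theorem not_realized_of_sub (T₀ : Sylow p G₀) (hT₀ : (T₀ : Subgroup G₀) = S₀) (E : FusionSystem S₀)
    (hle : ∀ (Q : Subgroup G₀) (φ : Q →* G₀), φ ∈ E.Hom Q → φ ∈ (groupFusionSystem S₀).Hom Q)
    (hne : ∃ (Q : Subgroup G₀) (φ : Q →* G₀), φ ∈ (groupFusionSystem S₀).Hom Q ∧ φ ∉ E.Hom Q)
    (hsc : ∀ A, E.StronglyClosed A → A = ⊥ ∨ A = S₀)
    (z₀ : G₀) (hz₀1 : z₀ ≠ 1) (hz₀S : z₀ ∈ S₀)
    (hz₀ : ∀ c ∈ S₀, c ≠ 1 → (∀ s ∈ S₀, c * s = s * c) → z₀ ∈ Subgroup.zpowers c)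
    {P : Type u} [Group P] [Finite P] {f : P →* G₀} (hf : Function.Injective f) (hfr : f.range = S₀)
    {X : FusionSystem (⊤ : Subgroup P)} (hX : IsPush hf X E)
    {G : Type u} [Group G] [Finite G] (ι : P →* G) (hι : Function.Injective ι) (T : Sylow p G)
    (hT : (T : Subgroup G) = ι.range)
    (hreal : ∀ (Q : Subgroup P) (φ : Q →* P), φ ∈ X.Hom Q ↔ Fus ι φ)
    (helim : ∀ (K : Type u) [Group K] [Finite K] [IsSimpleGroup K] (T' : Sylow p K), Nonempty (P ≃* T') →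
      Nonempty (K ≃* G₀)) : False := by
  have hpr : p.Prime := Fact.out
  have hSp : IsPGroup p S₀ := by rw [← hT₀]; exact T₀.2
  have hP : IsPGroup p P := by
    have h1 : IsPGroup p f.range := by rw [hfr]; exact hSp
    exact h1.of_injective f.rangeRestrict (fun x y h => hf (congrArg Subtype.val h))
  have hmemf : ∀ x, f x ∈ S₀ := fun x => by rw [← hfr]; exact ⟨x, rfl⟩
  have hscP : ∀ A : Subgroup P, (∀ a ∈ A, ∀ b : P, (∃ g : G, ι b = g * ι a * g⁻¹) → b ∈ A) → A = ⊥ ∨ A = ⊤ := by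
    intro A hA
    have h1 : X.StronglyClosed A := by
      refine ⟨le_top, fun R hR φ hφ x => ?_⟩
      obtain ⟨g, hg⟩ := (hreal R φ).1 hφ
      exact hA _ (hR x.2) _ ⟨g, hg x⟩
    rcases hsc _ (hX.stronglyClosed_iff.2 h1) with h | h
    · left
      exact (Subgroup.map_eq_bot_iff_of_injective _ hf).1 h
    · right
      apply Subgroup.map_injective hf
      rw [h, ← hfr, MonoidHom.range_eq_map]
  obtain ⟨z, hz⟩ : ∃ z, f z = z₀ := by
    have h1 : z₀ ∈ f.range := by rw [hfr]; exact hz₀S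
    exact h1
  have hz1 : z ≠ 1 := by
    rintro rfl
    rw [map_one] at hz
    exact hz₀1 hz.symm
  have hzmin : ∀ B : Subgroup P, B.Normal → B ≠ ⊥ → z ∈ B := by
    intro B hBn hB1
    obtain ⟨b, hb, hb1, hbc⟩ := Cfsg.Agent.H777.PGrp.inf_center_ne_bot hP hB1 hBn
    have hbc' : ∀ s ∈ S₀, f b * s = s * f b := by
      intro s hs
      rw [← hfr] at hs
      obtain ⟨y, rfl⟩ := hs
      rw [← map_mul, ← map_mul, hbc y]
    obtain ⟨k, hk⟩ := Subgroup.mem_zpowers_iff.1 (hz₀ (f b) (hmemf b) (fun h => hb1 (hf (by rw [h, map_one]))) hbc')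
    have h2 : b ^ k = z := by
      apply hf
      rw [map_zpow, hk, hz]
    rw [← h2]
    exact B.zpow_mem hb k
  obtain ⟨K, _, _, κ, hs, hκ, ⟨T', hT'⟩, hfus⟩ := exists_simple hP ι hι T hT hscP z hz1 hzmin
  obtain ⟨e⟩ := helim K T' ⟨(MonoidHom.ofInjective hκ).trans (MulEquiv.subgroupCongr hT'.symm)⟩
  -- the second embedding into `G₀`
  set κ' : P →* G₀ := e.toMonoidHom.comp κ with hκ'
  have hκ'i : Function.Injective κ' := e.injective.comp hκ
  have hFκ : ∀ (Q : Subgroup P) (φ : Q →* P), Fus κ' φ ↔ Fus κ φ := by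
    intro Q φ
    constructor
    · rintro ⟨g, hg⟩
      refine ⟨e.symm g, fun x => ?_⟩
      apply e.injective
      have h1 := hg x
      rw [map_mul, map_mul, map_inv, MulEquiv.apply_symm_apply]
      exact h1
    · rintro ⟨g, hg⟩
      refine ⟨e g, fun x => ?_⟩
      show e (κ (φ x)) = e g * e (κ x) * (e g)⁻¹
      rw [hg, map_mul, map_mul, map_inv]
  have hcS : Nat.card P = Nat.card S₀ := by
    rw [Nat.card_congr (MonoidHom.ofInjective hf).toEquiv, hfr]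
  let T₂ : Sylow p G₀ := Sylow.ofCard κ'.range (by
    rw [← Nat.card_congr (MonoidHom.ofInjective hκ'i).toEquiv, hcS, ← hT₀]
    exact T₀.card_eq_multiplicity)
  have hsub : ∀ (Q : Subgroup P) (φ : Q →* P), φ ∈ X.Hom Q → Fus f φ := by
    intro Q φ hφ
    have h1 := (hX.hom Q φ).2 hφ
    obtain ⟨-, -, g, hg⟩ := hle _ _ h1
    refine ⟨g, fun x => ?_⟩
    have h2 := hg (eqv hf Q x)
    rw [cb_eqv] at h2
    exact h2
  have hall := fus_iff_of_le (f := f) (κ := κ') hf hκ'i T₀ T₂ (by rw [hfr, hT₀]) rfl (fun Q φ h =>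
    hsub Q φ ((hreal Q φ).2 (hfus Q φ ((hFκ Q φ).1 h))))
  -- the contradiction
  obtain ⟨Q₀, φ₀, hφ₀, hφ₀'⟩ := hne
  have hQ₀S : Q₀ ≤ S₀ := hφ₀.1
  obtain ⟨Q, hQ⟩ := exists_eq_map (f := f) (P' := Q₀) (by rw [hfr]; exact hQ₀S)
  subst hQ
  obtain ⟨φ, rfl⟩ := exists_eq_cb hf φ₀ (fun y => by rw [hfr]; exact hφ₀.2.1 y)
  apply hφ₀'
  rw [hX.hom, hreal]
  have h1 : Fus f φ := by
    obtain ⟨-, -, g, hg⟩ := hφ₀
    refine ⟨g, fun x => ?_⟩
    have h2 := hg (eqv hf Q x)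
    rw [cb_eqv] at h2
    exact h2
  exact hfus Q φ ((hFκ Q φ).1 (hall Q φ h1))

/-- **A proper saturated subsystem without strongly closed subgroups is exotic with trivial core.** -/
theorem exotic_of_sub (T₀ : Sylow p G₀) (hT₀ : (T₀ : Subgroup G₀) = S₀) (E : FusionSystem S₀)
    (hle : ∀ (Q : Subgroup G₀) (φ : Q →* G₀), φ ∈ E.Hom Q → φ ∈ (groupFusionSystem S₀).Hom Q)
    (hne : ∃ (Q : Subgroup G₀) (φ : Q →* G₀), φ ∈ (groupFusionSystem S₀).Hom Q ∧ φ ∉ E.Hom Q)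
    (hsat : E.IsSaturated p)
    (hsc : ∀ A, E.StronglyClosed A → A = ⊥ ∨ A = S₀) (hnn : ¬ E.IsNormal S₀)
    (z₀ : G₀) (hz₀1 : z₀ ≠ 1) (hz₀S : z₀ ∈ S₀)
    (hz₀ : ∀ c ∈ S₀, c ≠ 1 → (∀ s ∈ S₀, c * s = s * c) → z₀ ∈ Subgroup.zpowers c)
    {P : Type u} [Group P] [Finite P] (T : Sylow p G₀) (e : P ≃* ↥(T : Subgroup G₀))
    (helim : ∀ (K : Type u) [Group K] [Finite K] [IsSimpleGroup K] (T' : Sylow p K), Nonempty (P ≃* T') →
      Nonempty (K ≃* G₀)) :
    ∃ F : FusionSystem (⊤ : Subgroup P), F.core = ⊥ ∧ F.IsExotic p := by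
  -- an embedding with image the standard Sylow subgroup
  obtain ⟨g, hg⟩ := MulAction.exists_smul_eq G₀ T T₀
  let f : P →* G₀ := (MulAut.conj g).toMonoidHom.comp ((T : Subgroup G₀).subtype.comp e.toMonoidHom)
  have hf : Function.Injective f :=
    (MulAut.conj g).injective.comp ((Subgroup.subtype_injective _).comp e.injective)
  have hfr : f.range = S₀ := by
    rw [← hT₀, ← hg, Sylow.coe_subgroup_smul]
    ext y
    constructor
    · rintro ⟨x, rfl⟩
      exact ⟨e x, (e x).2, rfl⟩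
    · rintro ⟨t, ht, rfl⟩
      refine ⟨e.symm ⟨t, ht⟩, ?_⟩
      show g * ((e (e.symm ⟨t, ht⟩) : (T : Subgroup G₀)) : G₀) * g⁻¹ = g * t * g⁻¹
      rw [MulEquiv.apply_symm_apply]
  obtain ⟨X, hX⟩ := exists_pull' (hf := hf) (T₁ := (⊤ : Subgroup P))
    (show S₀ = (⊤ : Subgroup P).map f by rw [← hfr, MonoidHom.range_eq_map]) E
  have hcore : E.core = ⊥ := by
    unfold FusionSystem.core
    rw [eq_bot_iff]
    refine sSup_le fun Q hQ => ?_
    have h1 := Cfsg.Agent.H759.IsNormal.stronglyClosed hQ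
    rcases hsc _ h1 with h | h
    · exact h.le
    · exfalso
      subst h
      exact hnn hQ
  refine ⟨X, ?_, ?_, ?_⟩
  · have h1 := hX.core_eq
    rw [hcore] at h1
    exact (Subgroup.map_eq_bot_iff_of_injective _ hf).1 h1.symm
  · exact hX.isSaturated_iff.1 hsat
  · rintro ⟨G, _, _, ι, hreal, S, hS⟩
    have hι : Function.Injective (ι.comp (Subgroup.topEquiv (G := P)).symm.toMonoidHom) :=
      hreal.1.comp (Subgroup.topEquiv (G := P)).symm.injective
    refine not_realized_of_sub T₀ hT₀ E hle hne hsc z₀ hz₀1 hz₀S hz₀ hf hfr hX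
      (ι.comp (Subgroup.topEquiv (G := P)).symm.toMonoidHom) hι S ?_ ?_ helim
    · rw [hS]
      ext y
      constructor
      · rintro ⟨x, rfl⟩
        exact ⟨x, rfl⟩
      · rintro ⟨x, rfl⟩
        exact ⟨_, rfl⟩
    · intro Q φ
      exact hreal.2 Q le_top φ (fun x => Subgroup.mem_top _)

end

end Cfsg.Agent.H771.M5
end
end
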